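import Mathlib
import Cfsg.Agent.H267.ThmA
import Cfsg.Agent.S0028
import Cfsg.Agent.Lib.PSolvable
import Cfsg.Agent.Lib.HallHigman
import Cfsg.Agent.S0215
set_option linter.all false

-- part: H267/ThmB
section
/-!
# Theorem B: the asymmetric version of Theorem A

`W` is an abelian `p`-subgroup of `G`, `Z ≤ W`, and for every `g : G` there is a `p'`-subgroup `K` normalized by
`W` with `C_K(w) ≤ O_{p'}(C_G(w))` for `1 ≠ w ∈ W`, and `k ∈ K` with `Z^{gk} ≤ W`.  Let `P` be a Sylow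
`p`-subgroup centralizing `Z`.

* `card_fus_le`: the fusion inequality for `z ∈ Z`: `δ m - N ≤ N₀/(N₀-1) (m - 1)`;
* `falseB`: `G` is not simple nonabelian when `|Z| ≥ 3` and `|P| ≥ 2|W|`.
-/

set_option autoImplicit false

namespace Cfsg.Agent.H267.ThmA

open Cfsg Cfsg.Agent.Characters Cfsg.Agent.Characters.Core
open scoped ComplexConjugate

/-- The hypothesis of Theorem B. -/
structure HypB {G : Type*} [Group G] (p : ℕ) (W Z : Subgroup G) : Prop where
  ab : ∀ x ∈ W, ∀ y ∈ W, x * y = y * x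
  isP : IsPGroup p W
  le : Z ≤ W
  exK : ∀ g : G, ∃ K : Subgroup G, (Nat.card K).Coprime p ∧
    (∀ w ∈ W, ∀ x ∈ K, w * x * w⁻¹ ∈ K) ∧
    (∀ w ∈ W, w ≠ 1 → ∀ u ∈ K, w * u = u * w → u ∈ centralizerPPrimeCore p w) ∧
    ∃ k ∈ K, ∀ z ∈ Z, (g * k)⁻¹ * z * (g * k) ∈ W

variable {G : Type*} [Group G] [Finite G] {p : ℕ} [Fact p.Prime]

/-- The key evaluation. -/
theorem keyB {W Z : Subgroup G} [Fintype W] [Fintype Z] (h : HypB p W Z) {M : Ideal AlgInt}
    (hM : IsPModular p M) (g : G) :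
    ∃ y : Z → G, (∀ z, ¬ p ∣ orderOf (y z)) ∧ ∀ χ ∈ principalBlock M G,
      (∀ z : Z, ∑ w : W, (χ : G → ℂ) (g⁻¹ * z * g * w) = T W (χ : G → ℂ) + (χ : G → ℂ) (y z)) ∧
      (Nat.card Z : ℝ) * (T Z (χ : G → ℂ)).re + (∑ z : Z, (χ : G → ℂ) (y z)).re ≤
        (Nat.card Z : ℝ) * (∑ z : Z, (χ : G → ℂ) (y z)).re := by
  classical
  have := Fintype.ofFinite G
  have hp : p.Prime := Fact.out
  obtain ⟨K, hK, hWK, hbal, k, hk, hkg⟩ := h.exK g
  set c : G → G := fun z => (g * k)⁻¹ * z * (g * k) with hc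
  have hcW : ∀ z ∈ Z, c z ∈ W := hkg
  have hKy : ∀ z ∈ Z, k * c z * k⁻¹ * (c z)⁻¹ ∈ K := by
    intro z hz
    have h1 := hWK (c z) (hcW z hz) k⁻¹ (K.inv_mem hk)
    have h2 : k * c z * k⁻¹ * (c z)⁻¹ = k * (c z * k⁻¹ * (c z)⁻¹) := by group
    rw [h2]
    exact K.mul_mem hk h1
  have hcz : ∀ z : G, g⁻¹ * z * g = k * c z * k⁻¹ := by
    intro z
    rw [hc]
    group
  refine ⟨fun z => k * c z * k⁻¹ * (c z)⁻¹, fun z => not_dvd_orderOf hp hK (hKy z z.2), ?_⟩
  intro χ hχ
  have hcl := isIrr_isClassFunction χ.2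
  have hval : ∀ z ∈ Z, ∀ w ∈ W, c z * w ≠ 1 →
      (χ : G → ℂ) (k * c z * k⁻¹ * w) = (χ : G → ℂ) (c z * w) := by
    intro z hz w hw hne
    have h4 := val hM h.isP h.ab hK hWK hbal hχ (K.inv_mem hk) (hcW z hz) hw hne
    rwa [inv_inv] at h4
  constructor
  · intro z
    set z' : W := ⟨c z, hcW z z.2⟩ with hz'
    have h2 : ∀ w : W, (χ : G → ℂ) (g⁻¹ * z * g * w) = (χ : G → ℂ) ((z' * w : W) : G) +
        (if w = z'⁻¹ then (χ : G → ℂ) (k * c z * k⁻¹ * (c z)⁻¹) - (χ : G → ℂ) 1 else 0) := by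
      intro w
      rw [hcz]
      by_cases hw : w = z'⁻¹
      · rw [if_pos hw, hw]
        simp [hz']
      · rw [if_neg hw, add_zero]
        have hwv : c z * w ≠ 1 := by
          intro h3
          apply hw
          apply Subtype.ext
          rw [Subgroup.coe_inv]
          exact eq_inv_of_mul_eq_one_right h3
        rw [hval z z.2 w w.2 hwv, Subgroup.coe_mul]
    rw [Finset.sum_congr rfl fun w _ => h2 w, Finset.sum_add_distrib, Finset.sum_ite_eq',
      if_pos (Finset.mem_univ _)]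
    have h3 : ∑ w : W, (χ : G → ℂ) ((z' * w : W) : G) = ∑ w : W, (χ : G → ℂ) w :=
      Fintype.sum_equiv (Equiv.mulLeft z') _ _ fun w => rfl
    rw [h3]
    unfold T
    ring
  · have hpos := PosDef.re_le χ.2 Z (g * k⁻¹ * g⁻¹)
    have e1 : ∀ z v : G, (χ : G → ℂ) ((g * k⁻¹ * g⁻¹)⁻¹ * z * (g * k⁻¹ * g⁻¹) * v) =
        (χ : G → ℂ) (k * c z * k⁻¹ * c v) := by
      intro z v
      rw [← hcl _ (g * k)⁻¹]
      congr 1
      rw [hc]
      group
    have e2 : ∑ z : Z, (χ : G → ℂ) ((g * k⁻¹ * g⁻¹)⁻¹ * z * (g * k⁻¹ * g⁻¹) * (z : G)⁻¹) =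
        ∑ z : Z, (χ : G → ℂ) (k * c z * k⁻¹ * (c z)⁻¹) := by
      refine Finset.sum_congr rfl fun z _ => ?_
      rw [e1]
      congr 2
      rw [hc]
      group
    have e3 : ∑ z : Z, ∑ v : Z, (χ : G → ℂ) ((g * k⁻¹ * g⁻¹)⁻¹ * z * (g * k⁻¹ * g⁻¹) * v) =
        (Nat.card Z : ℂ) * T Z (χ : G → ℂ) + ∑ z : Z, (χ : G → ℂ) (k * c z * k⁻¹ * (c z)⁻¹) := by
      have h1 : ∀ z : Z, ∑ v : Z, (χ : G → ℂ) ((g * k⁻¹ * g⁻¹)⁻¹ * z * (g * k⁻¹ * g⁻¹) * v) =
          T Z (χ : G → ℂ) + (χ : G → ℂ) (k * c z * k⁻¹ * (c z)⁻¹) := by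
        intro z
        have h2 : ∀ v : Z, (χ : G → ℂ) ((g * k⁻¹ * g⁻¹)⁻¹ * z * (g * k⁻¹ * g⁻¹) * v) =
            (χ : G → ℂ) ((z * v : Z) : G) +
            (if v = z⁻¹ then (χ : G → ℂ) (k * c z * k⁻¹ * (c z)⁻¹) - (χ : G → ℂ) 1 else 0) := by
          intro v
          rw [e1]
          by_cases hv : v = z⁻¹
          · rw [if_pos hv, hv]
            have h3 : c ((z⁻¹ : Z) : G) = (c z)⁻¹ := by
              rw [hc, Subgroup.coe_inv]
              group
            rw [h3]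
            simp
          · rw [if_neg hv, add_zero]
            have h4 : c z * c v = c ((z * v : Z) : G) := by
              rw [hc, Subgroup.coe_mul]
              group
            have hne : c z * c v ≠ 1 := by
              rw [h4]
              intro h5
              apply hv
              apply eq_inv_of_mul_eq_one_right
              apply Subtype.ext
              rw [Subgroup.coe_one]
              have h6 : (g * k) * c ((z * v : Z) : G) * (g * k)⁻¹ = ((z * v : Z) : G) := by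
                rw [hc]
                group
              rw [← h6, h5]
              group
            rw [hval z z.2 (c v) (hcW v v.2) hne, h4]
            have h7 : c ((z * v : Z) : G) = (g * k)⁻¹ * ((z * v : Z) : G) * ((g * k)⁻¹)⁻¹ := by
              rw [hc, inv_inv]
            rw [h7]
            exact hcl _ _
        rw [Finset.sum_congr rfl fun v _ => h2 v, Finset.sum_add_distrib, Finset.sum_ite_eq',
          if_pos (Finset.mem_univ _)]
        have h3 : ∑ v : Z, (χ : G → ℂ) ((z * v : Z) : G) = ∑ v : Z, (χ : G → ℂ) v :=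
          Fintype.sum_equiv (Equiv.mulLeft z) _ _ fun v => rfl
        rw [h3]
        unfold T
        ring
      rw [Finset.sum_congr rfl fun z _ => h1 z, Finset.sum_add_distrib, Finset.sum_const,
        Finset.card_univ, nsmul_eq_mul, ← Nat.card_eq_fintype_card]
    rw [e3, e2, Complex.add_re] at hpos
    rw [T_ofReal Z (isIrr_isCharacter χ.2), ← Complex.ofReal_natCast, ← Complex.ofReal_mul,
      Complex.ofReal_re] at hpos
    exact hpos

/-- The average of the values at the `p`-regular elements. -/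
theorem sum_key [Fintype G] {W : Subgroup G} [Fintype W] {χ : G → ℂ} (hχ : IsIrrCharacter G χ) (z : G) :
    ∑ g : G, ∑ w : W, χ (g⁻¹ * z * g * w) = (Nat.card G : ℂ) * (χ z * (T W χ + χ 1) / χ 1) := by
  rw [Finset.sum_comm]
  have h1 : ∀ w : W, ∑ g : G, χ (g⁻¹ * z * g * w) = (Nat.card G : ℂ) / χ 1 * χ z * χ w := by
    intro w
    have h2 := Central.sum_char_conj_mul hχ z (w : G)
    have h3 : ∑ g : G, χ (g⁻¹ * z * g * w) = ∑ a, χ (a * z * a⁻¹ * w) := by
      refine Fintype.sum_equiv (Equiv.inv G) _ _ fun g => ?_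
      simp
    rw [h3, h2]
    ring
  rw [Finset.sum_congr rfl fun w _ => h1 w, ← Finset.mul_sum]
  unfold T
  ring

/-- For nonprincipal characters in the principal block, `(N₀ - 1) (T_W + d) ≤ N₀ d`. -/
theorem alpha_le {W Z : Subgroup G} [Fintype W] [Fintype Z] (h : HypB p W Z) {M : Ideal AlgInt}
    (hM : IsPModular p M) (hcl : Subgroup.normalClosure (Z : Set G) = ⊤)
    {χ : IrrCharacter G} (hχ : χ ∈ blk M G) (hne : χ ≠ one G) {d : ℕ} (hd : (χ : G → ℂ) 1 = d) :
    ((Nat.card Z : ℝ) - 1) * ((T W (χ : G → ℂ)).re + d) ≤ (Nat.card Z : ℝ) * d := by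
  classical
  have := Fintype.ofFinite G
  have hch := isIrr_isCharacter χ.2
  obtain ⟨t, ht⟩ := T_eq W hch
  obtain ⟨s, hs⟩ := T_eq Z hch
  have hlt := T_lt hcl hne hd
  rw [hs, Complex.ofReal_re] at hlt
  rw [ht, Complex.ofReal_re]
  have hdpos : (0 : ℝ) < d := by
    obtain ⟨d', hd0, hd'⟩ := isIrr_apply_one χ.2
    have hdd : d' = d := by
      have : (d' : ℂ) = d := by rw [← hd', hd]
      exact_mod_cast this
    rw [← hdd]
    exact_mod_cast hd0
  have hG : (0 : ℝ) < Nat.card G := by exact_mod_cast Nat.card_pos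
  choose y hy1 hy2 using fun g => keyB h hM g
  -- the average of the sum of the `χ (y g z)`
  have h1 : ∑ g : G, ∑ z : Z, (χ : G → ℂ) (y g z) =
      (Nat.card G : ℂ) * ((s + d) * (t + d) / d - Nat.card Z * t) := by
    rw [Finset.sum_comm]
    have h2 : ∀ z : Z, ∑ g : G, (χ : G → ℂ) (y g z) =
        (Nat.card G : ℂ) * ((χ : G → ℂ) z * ((t + d) / d) - t) := by
      intro z
      have h3 := sum_key (W := W) χ.2 (z : G)
      rw [Finset.sum_congr rfl fun g _ => (hy2 g χ (mem_blk.1 hχ)).1 z, Finset.sum_add_distrib,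
        Finset.sum_const, Finset.card_univ, nsmul_eq_mul, ← Nat.card_eq_fintype_card, ht, hd] at h3
      linear_combination h3
    rw [Finset.sum_congr rfl fun z _ => h2 z, ← Finset.mul_sum, Finset.sum_sub_distrib,
      ← Finset.sum_mul, Finset.sum_const, Finset.card_univ, nsmul_eq_mul, ← Nat.card_eq_fintype_card]
    have h4 : ∑ z : Z, (χ : G → ℂ) z = s + d := by
      have : T Z (χ : G → ℂ) = ∑ z : Z, (χ : G → ℂ) z - (χ : G → ℂ) 1 := rfl
      rw [hs, hd] at this
      linear_combination -this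
    rw [h4]
    ring
  have h2 : ∑ g : G, (∑ z : Z, (χ : G → ℂ) (y g z)).re =
      (Nat.card G : ℝ) * ((s + d) * (t + d) / d - Nat.card Z * t) := by
    rw [← Complex.re_sum, h1]
    rw [← Complex.ofReal_re ((Nat.card G : ℝ) * ((s + d) * (t + d) / d - Nat.card Z * t))]
    congr 1
    push_cast
    ring
  have h3 : ∀ g : G, (Nat.card Z : ℝ) * s ≤
      ((Nat.card Z : ℝ) - 1) * (∑ z : Z, (χ : G → ℂ) (y g z)).re := by
    intro g
    have h4 := (hy2 g χ (mem_blk.1 hχ)).2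
    rw [hs, Complex.ofReal_re] at h4
    linarith
  have h4 : ∑ g : G, (Nat.card Z : ℝ) * s ≤
      ∑ g : G, ((Nat.card Z : ℝ) - 1) * (∑ z : Z, (χ : G → ℂ) (y g z)).re :=
    Finset.sum_le_sum fun g _ => h3 g
  rw [Finset.sum_const, Finset.card_univ, nsmul_eq_mul, ← Nat.card_eq_fintype_card,
    ← Finset.mul_sum, h2] at h4
  have h5 : (Nat.card G : ℝ) * ((Nat.card Z : ℝ) * s * d) ≤
      (Nat.card G : ℝ) * (((Nat.card Z : ℝ) - 1) * ((s + d) * (t + d) - Nat.card Z * t * d)) := by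
    have h6 := mul_le_mul_of_nonneg_right h4 hdpos.le
    have h7 : ((Nat.card Z : ℝ) - 1) * ((Nat.card G : ℝ) * ((s + d) * (t + d) / d -
        Nat.card Z * t)) * d = (Nat.card G : ℝ) * (((Nat.card Z : ℝ) - 1) *
        ((s + d) * (t + d) - Nat.card Z * t * d)) := by
      field_simp
    rw [h7] at h6
    linarith
  have h6 := le_of_mul_le_mul_left h5 hG
  -- factorization
  have h7 : 0 ≤ (((Nat.card Z : ℝ) - 1) * d - s) *
      ((Nat.card Z : ℝ) * d - ((Nat.card Z : ℝ) - 1) * (t + d)) := by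
    nlinarith
  by_contra hcon
  push Not at hcon
  have h8 : (((Nat.card Z : ℝ) - 1) * d - s) *
      ((Nat.card Z : ℝ) * d - ((Nat.card Z : ℝ) - 1) * (t + d)) < 0 :=
    mul_neg_of_pos_of_neg (by linarith) (by linarith)
  linarith

/-- The sum of the values over the principal block against `T W`. -/
theorem sum_T_conj {W Z : Subgroup G} [Fintype W] (h : HypB p W Z) {M : Ideal AlgInt}
    (hM : IsPModular p M) {z : G} (hz : z ∈ Z) (hz1 : z ≠ 1) :
    ∑ χ ∈ blk M G, T W (χ : G → ℂ) * conj ((χ : G → ℂ) z) =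
      ((Nat.card {w : W // IsConj z (w : G)} : ℂ)) *
        ((∑ χ ∈ blk M G, ‖(χ : G → ℂ) z‖ ^ 2 : ℝ) : ℂ) := by
  classical
  have hp : p.Prime := Fact.out
  have hzW : z ∈ W := h.le hz
  have h1 : ∀ w : W, ∑ χ ∈ blk M G, (χ : G → ℂ) w * conj ((χ : G → ℂ) z) =
      if IsConj z (w : G) then ((∑ χ ∈ blk M G, ‖(χ : G → ℂ) z‖ ^ 2 : ℝ) : ℂ) else 0 := by
    intro w
    split_ifs with hc
    · push_cast
      refine Finset.sum_congr rfl fun χ _ => ?_
      rw [← Blocks.Basic.irr_isConj χ.2 hc, Complex.mul_conj']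
    · have h1 := (S0925.result (G := G) p M hM).2 w z w z
        ⟨1, mul_one _, Commute.one_right _, orderOf_pow hp h.isP w.2, one_not_dvd hp⟩
        ⟨1, mul_one _, Commute.one_right _, orderOf_pow hp h.isP hzW, one_not_dvd hp⟩
        (fun h' => hc h'.symm) (principalBlock M G) (isPBlock_principal M)
      rw [finsum_blk M fun χ : IrrCharacter G => (χ : G → ℂ) w * (χ : G → ℂ) z⁻¹] at h1
      rw [← h1]
      refine Finset.sum_congr rfl fun χ _ => ?_
      rw [isCharacter_apply_inv (isIrr_isCharacter χ.2)]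
  have h2 : ∀ χ ∈ blk M G, T W (χ : G → ℂ) * conj ((χ : G → ℂ) z) =
      ∑ w : W, (χ : G → ℂ) w * conj ((χ : G → ℂ) z) - (χ : G → ℂ) 1 * conj ((χ : G → ℂ) z) := by
    intro χ _
    unfold T
    rw [sub_mul, Finset.sum_mul]
  rw [Finset.sum_congr rfl h2, Finset.sum_sub_distrib,
    orth hM (one_not_dvd hp) (dvd_orderOf hp h.isP hzW hz1), sub_zero, Finset.sum_comm,
    Finset.sum_congr rfl fun w _ => h1 w, ← Finset.sum_filter, Finset.sum_const, nsmul_eq_mul,
    Nat.card_eq_fintype_card, Fintype.card_subtype]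

/-- The main identity: `∑ |χ(z)|² (T_W + d)/d = δ m`. -/
theorem main_identity {W Z : Subgroup G} [Fintype W] [Fintype Z] (h : HypB p W Z) {M : Ideal AlgInt}
    (hM : IsPModular p M) {z : G} (hz : z ∈ Z) (hz1 : z ≠ 1) :
    ∑ χ ∈ blk M G, ‖(χ : G → ℂ) z‖ ^ 2 * (((T W (χ : G → ℂ)).re + ((χ : G → ℂ) 1).re) /
      ((χ : G → ℂ) 1).re) =
      (Nat.card {w : W // IsConj z (w : G)} : ℝ) * ∑ χ ∈ blk M G, ‖(χ : G → ℂ) z‖ ^ 2 := by
  classical
  have := Fintype.ofFinite G
  have hp : p.Prime := Fact.out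
  have hzW : z ∈ W := h.le hz
  have hG : (Nat.card G : ℂ) ≠ 0 := card_ne_zero_complex
  choose y hy1 hy2 using fun g => keyB h hM g
  have h1 : ∑ g : G, ∑ χ ∈ blk M G, (χ : G → ℂ) (y g ⟨z, hz⟩) * conj ((χ : G → ℂ) z) = 0 :=
    Finset.sum_eq_zero fun g _ => orth hM (hy1 g ⟨z, hz⟩) (dvd_orderOf hp h.isP hzW hz1)
  rw [Finset.sum_comm] at h1
  have h2 : ∀ χ ∈ blk M G, ∑ g : G, (χ : G → ℂ) (y g ⟨z, hz⟩) * conj ((χ : G → ℂ) z) =
      (Nat.card G : ℂ) * ((χ : G → ℂ) z * conj ((χ : G → ℂ) z) *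
        ((T W (χ : G → ℂ) + (χ : G → ℂ) 1) / (χ : G → ℂ) 1) -
        T W (χ : G → ℂ) * conj ((χ : G → ℂ) z)) := by
    intro χ hχ
    have h3 := sum_key (W := W) χ.2 z
    rw [Finset.sum_congr rfl fun g _ => (hy2 g χ (mem_blk.1 hχ)).1 ⟨z, hz⟩, Finset.sum_add_distrib,
      Finset.sum_const, Finset.card_univ, nsmul_eq_mul, ← Nat.card_eq_fintype_card] at h3
    rw [← Finset.sum_mul]
    linear_combination (conj ((χ : G → ℂ) z)) * h3
  rw [Finset.sum_congr rfl h2, ← Finset.mul_sum] at h1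
  have h3 := (mul_eq_zero.1 h1).resolve_left hG
  rw [Finset.sum_sub_distrib, sum_T_conj h hM hz hz1, sub_eq_zero] at h3
  have h4 : ((∑ χ ∈ blk M G, ‖(χ : G → ℂ) z‖ ^ 2 * (((T W (χ : G → ℂ)).re +
      ((χ : G → ℂ) 1).re) / ((χ : G → ℂ) 1).re) : ℝ) : ℂ) =
      (((Nat.card {w : W // IsConj z (w : G)} : ℝ) *
        ∑ χ ∈ blk M G, ‖(χ : G → ℂ) z‖ ^ 2 : ℝ) : ℂ) := by
    rw [Complex.ofReal_mul, Complex.ofReal_natCast, ← h3]
    push_cast
    refine Finset.sum_congr rfl fun χ _ => ?_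
    rw [Complex.mul_conj', ← T_ofReal W (isIrr_isCharacter χ.2)]
    obtain ⟨d, -, hd⟩ := isIrr_apply_one χ.2
    rw [hd]
    simp
  exact_mod_cast h4

/-- The norm of the principal block at `x` is at least the order of a `p`-subgroup of `C(x)`. -/
theorem norm_ge' {R : Subgroup G} (hR : IsPGroup p R) {M : Ideal AlgInt}
    (hM : IsPModular p M) {x : G} (hxp : ∃ k : ℕ, orderOf x = p ^ k) (hx1 : x ≠ 1)
    (hRC : ∀ r ∈ R, r * x = x * r) :
    (Nat.card R : ℝ) ≤ ∑ χ ∈ blk M G, ‖(χ : G → ℂ) x‖ ^ 2 := by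
  classical
  have hp : p.Prime := Fact.out
  set C : Subgroup G := Subgroup.centralizer ({x} : Set G) with hC
  have h1 := (S0947.result p M hM x hxp hx1 1 (by
    rw [orderOf_one]; intro h; exact hp.one_lt.ne' (Nat.dvd_one.1 h))).1
  rw [finsum_blk M fun ζ : IrrCharacter G => ‖(ζ : G → ℂ) (x * ((1 : C) : G))‖ ^ 2,
    finsum_blk M fun ζ : IrrCharacter C => ‖(ζ : C → ℂ) (1 : C)‖ ^ 2] at h1
  rw [Subgroup.coe_one, mul_one] at h1
  rw [h1]
  have hWC : R ≤ C := by
    intro w hw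
    rw [hC, Subgroup.mem_centralizer_singleton_iff]
    exact hRC w hw
  set W' : Subgroup C := R.subgroupOf C with hW'
  have : Fintype W' := Fintype.ofFinite _
  have hcard : Nat.card W' = Nat.card R := Nat.card_congr (Subgroup.subgroupOfEquivOfLe hWC).toEquiv
  have hW'p : IsPGroup p W' := hR.of_equiv (Subgroup.subgroupOfEquivOfLe hWC).symm
  have h2 : ∀ χ : IrrCharacter C, ∃ n d : ℕ, T W' (χ : C → ℂ) = (Nat.card W' : ℂ) * n - d ∧
      (χ : C → ℂ) 1 = d := by
    intro χ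
    obtain ⟨n, hn⟩ := Classification.RTwo.CoreKill.exists_sum_eq (isIrr_isCharacter χ.2) W'
    obtain ⟨d, hd⟩ := isCharacter_apply_one (isIrr_isCharacter χ.2)
    refine ⟨n, d, ?_, hd⟩
    unfold T
    rw [hn, hd]
  choose n d hn hd using h2
  have h3 := sum_mul_T hW'p hM (one_not_dvd (G := C) hp)
  have h4 : ∑ χ ∈ blk M C, ((d χ : ℂ) * d χ) = (Nat.card W' : ℂ) * ∑ χ ∈ blk M C, (d χ : ℂ) * n χ := by
    have h5 : ∀ χ ∈ blk M C, (χ : C → ℂ) 1 * T W' (χ : C → ℂ) =
        (Nat.card W' : ℂ) * ((d χ : ℂ) * n χ) - d χ * d χ := by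
      intro χ _
      rw [hn, hd]
      ring
    rw [Finset.sum_congr rfl h5, Finset.sum_sub_distrib, ← Finset.mul_sum] at h3
    linear_combination -h3
  have h5 : ∑ χ ∈ blk M C, (d χ * d χ) = Nat.card W' * ∑ χ ∈ blk M C, d χ * n χ := by
    exact_mod_cast h4
  have h6 : ∑ χ ∈ blk M C, ‖(χ : C → ℂ) 1‖ ^ 2 = ((∑ χ ∈ blk M C, (d χ * d χ) : ℕ) : ℝ) := by
    push_cast
    refine Finset.sum_congr rfl fun χ _ => ?_
    rw [hd, Complex.norm_natCast]
    ring
  rw [h6, h5, ← hcard]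
  have h7 : 1 ≤ ∑ χ ∈ blk M C, d χ * n χ := by
    have h8 : d (one C) * n (one C) ≤ ∑ χ ∈ blk M C, d χ * n χ :=
      Finset.single_le_sum (f := fun χ => d χ * n χ) (fun _ _ => Nat.zero_le _) (one_mem_blk hM)
    have h9 : d (one C) = 1 := by
      have := hd (one C)
      have h10 : ((one C : IrrCharacter C) : C → ℂ) 1 = 1 := rfl
      rw [h10] at this
      exact_mod_cast this.symm
    have h10 : n (one C) = 1 := by
      have h11 := hn (one C)
      have h12 : T W' ((one C : IrrCharacter C) : C → ℂ) = (Nat.card W' : ℂ) - 1 := by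
        unfold T
        show ∑ w : W', (1 : ℂ) - 1 = _
        rw [Finset.sum_const, Finset.card_univ, nsmul_eq_mul, ← Nat.card_eq_fintype_card, mul_one]
      rw [h12, h9] at h11
      have h13 : (Nat.card W' : ℂ) * 1 = (Nat.card W' : ℂ) * n (one C) := by
        push_cast at h11
        linear_combination h11
      have h14 := mul_left_cancel₀ card_ne_zero_complex h13
      exact_mod_cast h14.symm
    rw [h9, h10] at h8
    exact h8
  have h8 : Nat.card W' * 1 ≤ Nat.card W' * ∑ χ ∈ blk M C, d χ * n χ := Nat.mul_le_mul_left _ h7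
  rw [mul_one] at h8
  exact_mod_cast h8

/-- The fusion inequality. -/
theorem fusion_ineq {W Z : Subgroup G} (h : HypB p W Z) {M : Ideal AlgInt}
    (hM : IsPModular p M) (hcl : Subgroup.normalClosure (Z : Set G) = ⊤)
    {z : G} (hz : z ∈ Z) (hz1 : z ≠ 1) :
    ((Nat.card Z : ℝ) - 1) * ((Nat.card {w : W // IsConj z (w : G)} : ℝ) *
      (∑ χ ∈ blk M G, ‖(χ : G → ℂ) z‖ ^ 2) - Nat.card W) ≤
      (Nat.card Z : ℝ) * ((∑ χ ∈ blk M G, ‖(χ : G → ℂ) z‖ ^ 2) - 1) := by
  classical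
  have := Fintype.ofFinite W
  have := Fintype.ofFinite Z
  have hp : p.Prime := Fact.out
  have h1 := main_identity h hM hz hz1
  have hone := one_mem_blk (G := G) hM
  set m := ∑ χ ∈ blk M G, ‖(χ : G → ℂ) z‖ ^ 2 with hm
  have hZ1 : (1 : ℝ) ≤ Nat.card Z := by exact_mod_cast Nat.card_pos
  have hT1r : (T W ((one G : IrrCharacter G) : G → ℂ)).re = (Nat.card W : ℝ) - 1 := by
    have : T W ((one G : IrrCharacter G) : G → ℂ) = (Nat.card W : ℂ) - 1 := by
      unfold T
      show ∑ w : W, (1 : ℂ) - 1 = _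
      rw [Finset.sum_const, Finset.card_univ, nsmul_eq_mul, ← Nat.card_eq_fintype_card, mul_one]
    rw [this]
    simp
  have hone1 : ∀ g : G, ((one G : IrrCharacter G) : G → ℂ) g = 1 := fun g => rfl
  rw [← Finset.add_sum_erase _ _ hone, hT1r, hone1, hone1] at h1
  have hm1 : m = 1 + ∑ χ ∈ (blk M G).erase (one G), ‖(χ : G → ℂ) z‖ ^ 2 := by
    rw [hm, ← Finset.add_sum_erase _ _ hone, hone1]
    simp
  have h2 : ((Nat.card Z : ℝ) - 1) * ∑ χ ∈ (blk M G).erase (one G), ‖(χ : G → ℂ) z‖ ^ 2 *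
      (((T W (χ : G → ℂ)).re + ((χ : G → ℂ) 1).re) / ((χ : G → ℂ) 1).re) ≤
      (Nat.card Z : ℝ) * ∑ χ ∈ (blk M G).erase (one G), ‖(χ : G → ℂ) z‖ ^ 2 := by
    rw [Finset.mul_sum, Finset.mul_sum]
    apply Finset.sum_le_sum
    intro χ hχ
    obtain ⟨d, hd0, hd⟩ := isIrr_apply_one χ.2
    have hα := alpha_le h hM hcl (Finset.mem_of_mem_erase hχ) (Finset.ne_of_mem_erase hχ) hd
    rw [hd, Complex.natCast_re]
    have hd' : (0 : ℝ) < d := by exact_mod_cast hd0
    have h3 : ((Nat.card Z : ℝ) - 1) * (((T W (χ : G → ℂ)).re + d) / d) ≤ Nat.card Z := by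
      rw [← mul_div_assoc, div_le_iff₀ hd']
      exact hα
    have h4 : 0 ≤ ‖(χ : G → ℂ) z‖ ^ 2 := sq_nonneg _
    nlinarith [mul_le_mul_of_nonneg_left h3 h4]
  have h3 : ∑ χ ∈ (blk M G).erase (one G), ‖(χ : G → ℂ) z‖ ^ 2 *
      (((T W (χ : G → ℂ)).re + ((χ : G → ℂ) 1).re) / ((χ : G → ℂ) 1).re) =
      (Nat.card {w : W // IsConj z (w : G)} : ℝ) * m - Nat.card W := by
    rw [← h1]
    simp
  have h4 : ∑ χ ∈ (blk M G).erase (one G), ‖(χ : G → ℂ) z‖ ^ 2 = m - 1 := by
    rw [hm1]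
    ring
  rw [h3, h4] at h2
  exact h2

/-- No fusion of `z` in `W` for `|Z| ≥ 3` and a large centralizer. -/
theorem no_fusionB {W Z : Subgroup G} (h : HypB p W Z) {M : Ideal AlgInt}
    (hM : IsPModular p M) (hcl : Subgroup.normalClosure (Z : Set G) = ⊤)
    (hZ3 : 3 ≤ Nat.card Z) {R : Subgroup G} (hR : IsPGroup p R) (hRW : 2 * Nat.card W ≤ Nat.card R)
    {z : G} (hz : z ∈ Z) (hz1 : z ≠ 1) (hRz : ∀ r ∈ R, r * z = z * r) :
    ∀ w ∈ W, IsConj z w → w = z := by
  classical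
  have hp : p.Prime := Fact.out
  by_contra hcon
  push Not at hcon
  obtain ⟨w, hw, hcw, hne⟩ := hcon
  have h1 := fusion_ineq h hM hcl hz hz1
  have h2 := norm_ge' hR hM (orderOf_pow hp h.isP (h.le hz)) hz1 hRz
  set m := ∑ χ ∈ blk M G, ‖(χ : G → ℂ) z‖ ^ 2 with hm
  have hδ : (2 : ℝ) ≤ (Nat.card {w : W // IsConj z (w : G)} : ℝ) := by
    have h3 : 1 < Nat.card {w : W // IsConj z (w : G)} := by
      rw [Finite.one_lt_card_iff_nontrivial]
      exact ⟨⟨⟨⟨w, hw⟩, hcw⟩, ⟨⟨z, h.le hz⟩, IsConj.refl z⟩, fun h' =>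
        hne (congrArg (fun q => ((q : {w : W // IsConj z (w : G)}) : W).1) h')⟩⟩
    exact_mod_cast h3
  have h3 : (3 : ℝ) ≤ Nat.card Z := by exact_mod_cast hZ3
  have h4 : 2 * (Nat.card W : ℝ) ≤ Nat.card R := by exact_mod_cast hRW
  have h5 : (1 : ℝ) ≤ Nat.card W := by exact_mod_cast Nat.card_pos
  have h6 : (Nat.card W : ℝ) ≤ m / 2 := by linarith
  have h7 : 2 * m ≤ (Nat.card {w : W // IsConj z (w : G)} : ℝ) * m :=
    mul_le_mul_of_nonneg_right hδ (by linarith)
  have h8 : ((Nat.card Z : ℝ) - 1) * (2 * m - m / 2) ≤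
      ((Nat.card Z : ℝ) - 1) * ((Nat.card {w : W // IsConj z (w : G)} : ℝ) * m - Nat.card W) :=
    mul_le_mul_of_nonneg_left (by linarith) (by linarith)
  nlinarith

/-- At most two conjugates of `z` in `W` for `|Z| = 2`. -/
theorem fusion_two {W Z : Subgroup G} (h : HypB p W Z) {M : Ideal AlgInt}
    (hM : IsPModular p M) (hcl : Subgroup.normalClosure (Z : Set G) = ⊤)
    (hZ2 : Nat.card Z = 2) {R : Subgroup G} (hR : IsPGroup p R) (hRW : Nat.card W ≤ Nat.card R)
    {z : G} (hz : z ∈ Z) (hz1 : z ≠ 1) (hRz : ∀ r ∈ R, r * z = z * r) :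
    Nat.card {w : W // IsConj z (w : G)} ≤ 2 := by
  classical
  have hp : p.Prime := Fact.out
  by_contra hcon
  push Not at hcon
  have h1 := fusion_ineq h hM hcl hz hz1
  have h2 := norm_ge' hR hM (orderOf_pow hp h.isP (h.le hz)) hz1 hRz
  set m := ∑ χ ∈ blk M G, ‖(χ : G → ℂ) z‖ ^ 2 with hm
  have hδ : (3 : ℝ) ≤ (Nat.card {w : W // IsConj z (w : G)} : ℝ) := by exact_mod_cast hcon
  have h4 : (Nat.card W : ℝ) ≤ Nat.card R := by exact_mod_cast hRW
  have h5 : (1 : ℝ) ≤ Nat.card W := by exact_mod_cast Nat.card_pos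
  rw [hZ2] at h1
  have h7 : 3 * m ≤ (Nat.card {w : W // IsConj z (w : G)} : ℝ) * m :=
    mul_le_mul_of_nonneg_right hδ (by linarith)
  push_cast at h1
  linarith

/-- Multiplicativity for an element of `Z` not fused in `W`. -/
theorem multB {W Z : Subgroup G} (h : HypB p W Z) {M : Ideal AlgInt} (hM : IsPModular p M)
    {z : G} (hz : z ∈ Z) (hnf : ∀ w ∈ W, IsConj z w → w = z) {χ : IrrCharacter G}
    (hχ : χ ∈ principalBlock M G) {x : G} (hx : x ∈ W) (hxz : z * x ≠ 1) :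
    (χ : G → ℂ) z * (χ : G → ℂ) x = (χ : G → ℂ) 1 * (χ : G → ℂ) (z * x) := by
  apply S0943.result
  intro z' x' hz' hx'
  obtain ⟨a, rfl⟩ := isConj_iff.1 hz'
  obtain ⟨b, rfl⟩ := isConj_iff.1 hx'
  obtain ⟨K, hK, hWK, hbal, k, hk, hkg⟩ := h.exK (a⁻¹ * b)
  have h1 := hkg z hz
  set n : G := (a⁻¹ * b) * k with hn
  have h2 : n⁻¹ * z * n = z := by
    apply hnf _ h1
    exact isConj_iff.2 ⟨n⁻¹, by rw [inv_inv]⟩
  have h4 : a * z * a⁻¹ * (b * x * b⁻¹) = b * (((a⁻¹ * b)⁻¹ * z * (a⁻¹ * b)) * x) * b⁻¹ := by group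
  have h5 : (a⁻¹ * b)⁻¹ * z * (a⁻¹ * b) = k * z * k⁻¹ := by
    have : (a⁻¹ * b)⁻¹ * z * (a⁻¹ * b) = k * (n⁻¹ * z * n) * k⁻¹ := by rw [hn]; group
    rw [this, h2]
  rw [h4, Blocks.Basic.irr_conj χ.2, h5]
  have h6 := val hM h.isP h.ab hK hWK hbal hχ (K.inv_mem hk) (h.le hz) hx hxz
  rwa [inv_inv] at h6

/-- Nonvanishing at an element centralized by a Sylow `p`-subgroup. -/
theorem apply_ne_zero' (P : Sylow p G) {M : Ideal AlgInt} (hM : IsPModular p M) {χ : IrrCharacter G}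
    (hχ : χ ∈ principalBlock M G) {w : G} (hw : ∀ r ∈ (P : Subgroup G), r * w = w * r) :
    (χ : G → ℂ) w ≠ 0 := by
  intro h0
  have h1 := hχ w
  simp only [Blocks.Basic.centralChar_def, h0, mul_zero, zero_div, sub_zero, mul_one, div_one] at h1
  rw [Blocks.Local.memLocalIdeal_natCast_iff hM] at h1
  have hle : (P : Subgroup G) ≤ Subgroup.centralizer ({w} : Set G) := by
    intro g hg
    rw [Subgroup.mem_centralizer_singleton_iff]
    exact hw g hg
  exact P.not_dvd_index (h1.trans (Subgroup.index_dvd_of_le hle))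

/-- **Theorem B.** -/
theorem falseB [IsSimpleGroup G] (hG : ¬ ∀ a b : G, a * b = b * a) {W Z : Subgroup G}
    (h : HypB p W Z) (hZ3 : 3 ≤ Nat.card Z) (P : Sylow p G)
    (hPZ : ∀ r ∈ (P : Subgroup G), ∀ z ∈ Z, r * z = z * r)
    (hPW : 2 * Nat.card W ≤ Nat.card (P : Subgroup G)) : False := by
  classical
  have hp : p.Prime := Fact.out
  obtain ⟨M, hM⟩ := Blocks.ExistsModular.exists_isPModular hp
  have hZb : Z ≠ ⊥ := by
    rintro rfl
    rw [Subgroup.card_bot] at hZ3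
    omega
  have hcl : Subgroup.normalClosure (Z : Set G) = ⊤ := by
    rcases IsSimpleGroup.eq_bot_or_eq_top_of_normal (Subgroup.normalClosure (Z : Set G))
      inferInstance with h1 | h1
    · exfalso
      apply hZb
      rw [eq_bot_iff, ← h1]
      exact Subgroup.le_normalClosure
    · exact h1
  have hnf : ∀ z ∈ Z, z ≠ 1 → ∀ w ∈ W, IsConj z w → w = z := fun z hz hz1 =>
    no_fusionB h hM hcl hZ3 P.isPGroup' hPW hz hz1 fun r hr => hPZ r hr z hz
  obtain ⟨⟨z, hz⟩, hz2⟩ := Subgroup.ne_bot_iff_exists_ne_one.1 hZb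
  have hz1 : z ≠ 1 := fun h => hz2 (Subtype.ext h)
  -- choose `y`
  obtain ⟨y, hy, hy1, hyx⟩ : ∃ y ∈ Z, y ≠ 1 ∧ y ≠ z⁻¹ := by
    by_contra hcon
    push Not at hcon
    have := Fintype.ofFinite Z
    have h1 : (Finset.univ : Finset Z) ⊆ {1, ⟨z⁻¹, Z.inv_mem hz⟩} := by
      intro y _
      rw [Finset.mem_insert, Finset.mem_singleton]
      by_cases hy1 : (y : G) = 1
      · exact Or.inl (Subtype.ext hy1)
      · exact Or.inr (Subtype.ext (hcon y y.2 hy1))
    have h2 := Finset.card_le_card h1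
    rw [Finset.card_univ, ← Nat.card_eq_fintype_card] at h2
    have h3 := Finset.card_le_two (a := (1 : Z)) (b := ⟨z⁻¹, Z.inv_mem hz⟩)
    omega
  have hxy1 : z * y ≠ 1 := fun h' => hyx (eq_inv_of_mul_eq_one_right h')
  have hnorm : ∀ χ ∈ principalBlock M G, ∀ d : ℕ, (χ : G → ℂ) 1 = d → ‖(χ : G → ℂ) z‖ = d := by
    intro χ hχ d hd
    have e1 := multB h hM hz (hnf z hz hz1) hχ (h.le hy) hxy1
    have e2 := multB h hM (Z.inv_mem hz) (hnf z⁻¹ (Z.inv_mem hz) (inv_ne_one.2 hz1)) hχ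
      (W.mul_mem (h.le hz) (h.le hy)) (by rwa [inv_mul_cancel_left])
    rw [inv_mul_cancel_left] at e2
    have hy0 := apply_ne_zero' P hM hχ (w := y) fun r hr => hPZ r hr y hy
    rw [isCharacter_apply_inv (isIrr_isCharacter χ.2)] at e2
    have e3 : conj ((χ : G → ℂ) z) * (χ : G → ℂ) z = (d : ℂ) * d := by
      rw [hd] at e1 e2
      have h1 : (conj ((χ : G → ℂ) z) * (χ : G → ℂ) z - (d : ℂ) * d) * (χ : G → ℂ) y = 0 := by
        linear_combination (conj ((χ : G → ℂ) z)) * e1 + (d : ℂ) * e2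
      rcases mul_eq_zero.1 h1 with h2 | h2
      · exact sub_eq_zero.1 h2
      · exact absurd h2 hy0
    rw [mul_comm, Complex.mul_conj'] at e3
    have e4 : ‖(χ : G → ℂ) z‖ ^ 2 = (d : ℝ) ^ 2 := by
      rw [pow_two (d : ℝ)]
      exact_mod_cast e3
    exact (pow_left_inj₀ (norm_nonneg _) (Nat.cast_nonneg d) two_ne_zero).1 e4
  -- commutators are in the kernel
  obtain ⟨K, hKn, hK, hKp, -, -⟩ := S0938.result p M hM (principalBlock M G) (isPBlock_principal M)
    (one G) (mem_blk.1 (one_mem_blk hM))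
  have hKb : K = ⊥ := by
    rcases IsSimpleGroup.eq_bot_or_eq_top_of_normal K hKn with h2 | h2
    · exact h2
    · exfalso
      rw [h2] at hKp
      have h3 : p ∣ Nat.card (⊤ : Subgroup G) := by
        rw [Subgroup.card_top]
        exact (dvd_orderOf hp h.isP (h.le hz) hz1).trans (orderOf_dvd_natCard z)
      exact hKp h3
  have hcomm : ∀ g : G, z * g * z⁻¹ * g⁻¹ = 1 := by
    intro g
    have h0 : z * g * z⁻¹ * g⁻¹ ∈ (K : Set G) := by
      rw [hK]
      intro χ hχ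
      obtain ⟨d, -, hd⟩ := isIrr_apply_one χ.2
      have h1 := hnorm χ hχ d hd
      obtain ⟨χ, n, ρ, hρ, rfl⟩ := χ
      simp only at h1 hd ⊢
      have h2 : ρ.character 1 = (Module.finrank ℂ (Fin n → ℂ) : ℂ) := by
        rw [Representation.char_one]
      have h3 : (d : ℝ) = (Module.finrank ℂ (Fin n → ℂ) : ℝ) := by
        have : (d : ℂ) = (Module.finrank ℂ (Fin n → ℂ) : ℂ) := by rw [← hd, h2]
        exact_mod_cast this
      rw [h3] at h1
      obtain ⟨c, hc⟩ := (Values.norm_character_eq_iff ρ z).1 h1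
      have h4 : z * g = (z * g * z⁻¹ * g⁻¹) * (g * z) := by group
      have h5 : ρ (z * g * z⁻¹ * g⁻¹) * ρ (g * z) = ρ (g * z) := by
        rw [← map_mul, ← h4, map_mul, map_mul, hc]
        ext v
        simp
      have h6 : ρ (g * z) * ρ (g * z)⁻¹ = 1 := by rw [← map_mul, mul_inv_cancel, map_one]
      have h7 : ρ (z * g * z⁻¹ * g⁻¹) = 1 := by
        calc ρ (z * g * z⁻¹ * g⁻¹) = ρ (z * g * z⁻¹ * g⁻¹) * (ρ (g * z) * ρ (g * z)⁻¹) := by
              rw [h6, mul_one]
          _ = 1 := by rw [← mul_assoc, h5, h6]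
      have h8 : ρ (z * g * z⁻¹ * g⁻¹) = ρ 1 := by rw [h7, map_one ρ]
      rw [Representation.character, Representation.character, h8]
    rw [hKb] at h0
    exact h0
  have hzc : z ∈ Subgroup.center G := by
    rw [Subgroup.mem_center_iff]
    intro g
    have h3 : z * g * z⁻¹ = g := mul_inv_eq_one.1 (hcomm g)
    exact (mul_inv_eq_iff_eq_mul.1 h3).symm
  rcases IsSimpleGroup.eq_bot_or_eq_top_of_normal (Subgroup.center G) inferInstance with h2 | h2
  · rw [h2] at hzc
    exact hz1 (Subgroup.mem_bot.1 hzc)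
  · apply hG
    intro a b
    have : b ∈ Subgroup.center G := by rw [h2]; trivial
    exact Subgroup.mem_center_iff.1 this a

end Cfsg.Agent.H267.ThmA
end

-- part: H267/Invar
section
/-!
# Invariant `p'`-subgroups in `p`-solvable groups

* `eq_bot_of_invariant`: `X` with `C(O_p) ≤ O_p ≤ S`, `S` a `p`-group, `R ≤ S` normalized by `S` with
  `C_S(R) ≤ R`: an `R`-invariant `p'`-subgroup is trivial;
* `le_pPrimeCore_of_invariant`: the version for `p`-solvable groups;
* `mem_centralizerPPrimeCore`: application to a weakly closed abelian subgroup `W` of a Sylow subgroup `P` and a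
  `P`-invariant `p'`-subgroup `K`: `C_K(w) ≤ O_{p'}(C_G(w))`.
-/

set_option autoImplicit false

namespace Cfsg.Agent.H267.Invar

open Cfsg Subgroup

section

variable {X : Type*} [Group X] [Finite X] {p : ℕ} [Fact p.Prime]

/-- A `p`-element in a `p'`-subgroup is trivial. -/
theorem eq_one_of_mem {D Q : Subgroup X} (hD : (Nat.card D).Coprime p) (hQ : IsPGroup p Q) {x : X}
    (hx : x ∈ D) (hx' : x ∈ Q) : x = 1 := by
  obtain ⟨m, hm⟩ := (hQ.exists_orderOf_eq_pow : ∀ g : Q, _) ⟨x, hx'⟩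
  rw [Subgroup.orderOf_mk] at hm
  have h1 : orderOf x ∣ Nat.card D := by
    have h0 := orderOf_dvd_natCard (⟨x, hx⟩ : D)
    rwa [Subgroup.orderOf_mk] at h0
  rw [hm] at h1
  have h2 : Nat.Coprime (p ^ m) (Nat.card D) := Nat.Coprime.pow_left _ hD.symm
  have h3 := Nat.Coprime.eq_one_of_dvd h2 h1
  rw [h3] at hm
  exact orderOf_eq_one_iff.1 hm

theorem eq_bot_of_invariant (hC : centralizer (pCore p X : Set X) ≤ pCore p X)
    {S R D : Subgroup X} (hOS : pCore p X ≤ S) (hRS : R ≤ S) (hSp : IsPGroup p S)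
    (hSR : ∀ s ∈ S, ∀ r ∈ R, s * r * s⁻¹ ∈ R)
    (hCR : ∀ s ∈ S, (∀ r ∈ R, s * r = r * s) → s ∈ R) (hD : (Nat.card D).Coprime p)
    (hRD : ∀ r ∈ R, ∀ d ∈ D, r * d * r⁻¹ ∈ D) : D = ⊥ := by
  set Q := pCore p X with hQ
  have hQp : IsPGroup p Q := Lib.HallHigman.pCore_isPGroup p
  have hQn : Q.Normal := Lib.HallHigman.pCore_normal p
  -- `D` centralizes `R ∩ Q`
  have h1 : ∀ d ∈ D, ∀ c ∈ R, c ∈ Q → d * c * d⁻¹ = c := by
    intro d hd c hcR hcQ
    have h2 : d * c * d⁻¹ * c⁻¹ ∈ Q := Q.mul_mem (hQn.conj_mem c hcQ d) (Q.inv_mem hcQ)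
    have h3 : d * c * d⁻¹ * c⁻¹ ∈ D := by
      have h4 := D.mul_mem hd (hRD c hcR d⁻¹ (D.inv_mem hd))
      have h5 : d * (c * d⁻¹ * c⁻¹) = d * c * d⁻¹ * c⁻¹ := by group
      rwa [h5] at h4
    exact mul_inv_eq_one.1 (eq_one_of_mem hD hQp h3 h2)
  -- `[Q, R] ≤ R ∩ Q`
  have h2 : ∀ q ∈ Q, ∀ r ∈ R, q⁻¹ * (r * q * r⁻¹) ∈ R ∧ q⁻¹ * (r * q * r⁻¹) ∈ Q := by
    intro q hq r hr
    refine ⟨?_, Q.mul_mem (Q.inv_mem hq) (hQn.conj_mem q hq r)⟩
    have h3 : q⁻¹ * (r * q * r⁻¹) = (q⁻¹ * r * (q⁻¹)⁻¹) * r⁻¹ := by group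
    rw [h3]
    exact R.mul_mem (hSR q⁻¹ (S.inv_mem (hOS hq)) r hr) (R.inv_mem hr)
  -- `D` centralizes `R`
  have h3 : ∀ d ∈ D, ∀ r ∈ R, d * r = r * d := by
    intro d hd r hr
    set e : X := d * (r * d⁻¹ * r⁻¹) with he
    have heD : e ∈ D := D.mul_mem hd (hRD r hr d⁻¹ (D.inv_mem hd))
    -- `e` acts on `Q` by multiplication with elements of `R ∩ Q`
    have h4 : ∀ q ∈ Q, ∃ c ∈ R, c ∈ Q ∧ e * q * e⁻¹ = q * c := by
      intro q hq
      obtain ⟨c1R, c1Q⟩ := h2 q hq r⁻¹ (R.inv_mem hr)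
      set c1 : X := q⁻¹ * (r⁻¹ * q * r⁻¹⁻¹) with hc1
      set q2 : X := d⁻¹ * q * d with hq2
      have hq2Q : q2 ∈ Q := by
        have := hQn.conj_mem q hq d⁻¹
        rwa [inv_inv] at this
      obtain ⟨c2R, c2Q⟩ := h2 q2 hq2Q r hr
      set c2 : X := q2⁻¹ * (r * q2 * r⁻¹) with hc2
      have c3R : r * c1 * r⁻¹ ∈ R := hSR r (hRS hr) c1 c1R
      have c3Q : r * c1 * r⁻¹ ∈ Q := hQn.conj_mem c1 c1Q r
      set c3 : X := r * c1 * r⁻¹ with hc3
      refine ⟨c2 * c3, R.mul_mem c2R c3R, Q.mul_mem c2Q c3Q, ?_⟩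
      have e1 : d⁻¹ * c1 * d = c1 := by
        have := h1 d⁻¹ (D.inv_mem hd) c1 c1R c1Q
        rwa [inv_inv] at this
      have e2 : d * (c2 * c3) * d⁻¹ = c2 * c3 := h1 d hd _ (R.mul_mem c2R c3R) (Q.mul_mem c2Q c3Q)
      calc e * q * e⁻¹ = d * (r * (d⁻¹ * (r⁻¹ * q * r⁻¹⁻¹) * d) * r⁻¹) * d⁻¹ := by rw [he]; group
        _ = d * (r * (d⁻¹ * (q * c1) * d) * r⁻¹) * d⁻¹ := by
            rw [hc1]; group
        _ = d * (r * (q2 * (d⁻¹ * c1 * d)) * r⁻¹) * d⁻¹ := by rw [hq2]; group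
        _ = d * (r * (q2 * c1) * r⁻¹) * d⁻¹ := by rw [e1]
        _ = d * (q2 * (c2 * c3)) * d⁻¹ := by rw [hc2, hc3]; group
        _ = (d * q2 * d⁻¹) * (d * (c2 * c3) * d⁻¹) := by group
        _ = q * (c2 * c3) := by rw [e2, hq2]; group
    have h5 : ∀ q ∈ Q, e * q = q * e := by
      intro q hq
      obtain ⟨c, hcR, hcQ, hc⟩ := h4 q hq
      have hec : e * c * e⁻¹ = c := h1 e heD c hcR hcQ
      have h6 : ∀ n : ℕ, e ^ n * q * (e ^ n)⁻¹ = q * c ^ n := by
        intro n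
        induction n with
        | zero => simp
        | succ n ih =>
          have h7 : e ^ (n + 1) * q * (e ^ (n + 1))⁻¹ = e ^ n * (e * q * e⁻¹) * (e ^ n)⁻¹ := by
            rw [pow_succ]; group
          have h8 : e ^ n * c * (e ^ n)⁻¹ = c := by
            have h9 : Commute e c := by
              show e * c = c * e
              rw [← mul_inv_eq_iff_eq_mul]; exact hec
            have h10 : e ^ n * c = c * e ^ n := (h9.pow_left n).eq
            rw [h10, mul_inv_cancel_right]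
          have h9 : e ^ n * (q * c) * (e ^ n)⁻¹ = (e ^ n * q * (e ^ n)⁻¹) * (e ^ n * c * (e ^ n)⁻¹) := by
            group
          rw [h7, hc, h9, ih, h8, pow_succ, mul_assoc]
      have h7 : c ^ orderOf e = 1 := by
        have h8 := h6 (orderOf e)
        rw [pow_orderOf_eq_one] at h8
        simpa using h8
      have h8 : c = 1 := by
        have h9 : orderOf c ∣ orderOf e := orderOf_dvd_of_pow_eq_one h7
        have h10 : orderOf e ∣ Nat.card D := by
          have h0 := orderOf_dvd_natCard (⟨e, heD⟩ : D)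
          rwa [Subgroup.orderOf_mk] at h0
        obtain ⟨m, hm⟩ := (hQp.exists_orderOf_eq_pow : ∀ g : Q, _) ⟨c, hcQ⟩
        rw [Subgroup.orderOf_mk] at hm
        have h11 := h9.trans h10
        rw [hm] at h11
        have h12 : Nat.Coprime (p ^ m) (Nat.card D) := Nat.Coprime.pow_left _ hD.symm
        have h13 := Nat.Coprime.eq_one_of_dvd h12 h11
        rw [h13] at hm
        exact orderOf_eq_one_iff.1 hm
      rw [h8, mul_one] at hc
      exact mul_inv_eq_iff_eq_mul.1 hc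
    have h6 : e ∈ Q := by
      apply hC
      rw [mem_centralizer_iff]
      intro q hq
      exact (h5 q hq).symm
    have h7 : e = 1 := eq_one_of_mem hD hQp heD h6
    have h8 : d * r * d⁻¹ * r⁻¹ = 1 := by rw [← h7, he]; group
    exact mul_inv_eq_iff_eq_mul.1 (mul_inv_eq_one.1 h8)
  -- the P × Q lemma
  have h4 : D ≤ centralizer (Q : Set X) := by
    refine S0028.result p R D Q (hSp.to_le hRS) hD hQp ?_ ?_ ?_ ?_
    · intro r hr
      rw [mem_centralizer_iff]
      intro d hd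
      exact h3 d hd r hr
    · intro r _
      rw [Subgroup.normalizer_eq_top (H := Q)]
      trivial
    · intro r _
      rw [Subgroup.normalizer_eq_top (H := Q)]
      trivial
    · rintro c ⟨hcQ, hcR⟩
      have hcR' : c ∈ R := hCR c (hOS hcQ) fun r hr => (mem_centralizer_iff.1 hcR r hr).symm
      rw [mem_centralizer_iff]
      intro d hd
      exact mul_inv_eq_iff_eq_mul.1 (h1 d hd c hcR' hcQ)
  rw [eq_bot_iff]
  intro d hd
  rw [mem_bot]
  exact eq_one_of_mem hD hQp hd (hC (h4 hd))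

/-- `R`-invariant `p'`-subgroups of a `p`-solvable group lie in `O_{p'}`, when `R` is normal and contains its
centralizer in a Sylow `p`-subgroup. -/
theorem le_pPrimeCore_of_invariant (hX : IsPSolvable p X) (S : Sylow p X) {R D : Subgroup X}
    (hRS : R ≤ (S : Subgroup X))
    (hSR : ∀ s ∈ (S : Subgroup X), ∀ r ∈ R, s * r * s⁻¹ ∈ R)
    (hCR : ∀ s ∈ (S : Subgroup X), (∀ r ∈ R, s * r = r * s) → s ∈ R)
    (hD : (Nat.card D).Coprime p) (hRD : ∀ r ∈ R, ∀ d ∈ D, r * d * r⁻¹ ∈ D) :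
    D ≤ pPrimeCore p X := by
  have hp : p.Prime := Fact.out
  set K := pPrimeCore p X with hK
  have hKn : K.Normal := Lib.HallHigman.pPrimeCore_normal p
  have hKc : (Nat.card K).Coprime p := Lib.HallHigman.pPrimeCore_coprime p
  set π := QuotientGroup.mk' K with hπ
  have hπs : Function.Surjective π := QuotientGroup.mk'_surjective K
  have hker : ∀ x : X, π x = 1 ↔ x ∈ K := fun x => by
    rw [hπ, QuotientGroup.mk'_apply, QuotientGroup.eq_one_iff]
  have hsol : IsPSolvable p (X ⧸ K) := Lib.PSolvable.IsPSolvable_of_surjective p hX π hπs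
  have hO : pPrimeCore p (X ⧸ K) = ⊥ := by
    exact Lib.HallHigman.pPrimeCore_quotient_eq_bot (G := X) p K rfl
  have hC := Lib.PSolvable.centralizer_pCore_le_of_pSolvable p hsol hO
  have hOS : pCore p (X ⧸ K) ≤ (S : Subgroup X).map π := by
    have := Lib.HallHigman.pCore_le_sylow p (S.mapSurjective hπs)
    exact this
  have hbot : D.map π = ⊥ := by
    refine eq_bot_of_invariant hC (S := (S : Subgroup X).map π) (R := R.map π) hOS
      (Subgroup.map_mono hRS) (S.isPGroup'.map π) ?_ ?_ ?_ ?_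
    · rintro _ ⟨s, hs, rfl⟩ _ ⟨r, hr, rfl⟩
      exact ⟨s * r * s⁻¹, hSR s hs r hr, by simp⟩
    · rintro _ ⟨s, hs, rfl⟩ h
      refine ⟨s, hCR s hs fun r hr => ?_, rfl⟩
      have h1 := h (π r) ⟨r, hr, rfl⟩
      have h2 : s * r * s⁻¹ * r⁻¹ ∈ K := by
        rw [← hker, map_mul, map_mul, map_mul, map_inv, map_inv, h1]
        group
      have h3 : s * r * s⁻¹ * r⁻¹ ∈ (S : Subgroup X) :=
        mul_mem (mul_mem (mul_mem hs (hRS hr)) (inv_mem hs)) (inv_mem (hRS hr))
      have h4 := eq_one_of_mem hKc S.isPGroup' h2 h3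
      exact mul_inv_eq_iff_eq_mul.1 (mul_inv_eq_one.1 h4)
    · exact Nat.Coprime.coprime_dvd_left (Subgroup.card_map_dvd D π) hD
    · rintro _ ⟨r, hr, rfl⟩ _ ⟨d, hd, rfl⟩
      exact ⟨r * d * r⁻¹, hRD r hr d hd, by simp⟩
  intro d hd
  rw [← hker]
  have : π d ∈ D.map π := ⟨d, hd, rfl⟩
  rw [hbot] at this
  exact this

end

section

variable {G : Type*} [Group G] [Finite G] {p : ℕ} [Fact p.Prime]

omit [Finite G] [Fact p.Prime] in
theorem mem_smul_sylow (P : Sylow p G) (h x : G) :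
    x ∈ ((h • P : Sylow p G) : Subgroup G) ↔ h⁻¹ * x * h ∈ (P : Subgroup G) := by
  rw [Sylow.coe_subgroup_smul, Subgroup.mem_pointwise_smul_iff_inv_smul_mem, ← map_inv,
    MulAut.smul_def, MulAut.conj_apply, inv_inv]

/-- Let `W` be an abelian weakly closed subgroup of the Sylow subgroup `P` and `K` a `P`-invariant
`p'`-subgroup.  If `C(w)` is `p`-solvable, `w ∈ W`, then `C_K(w) ≤ O_{p'}(C(w))`. -/
theorem mem_centralizerPPrimeCore (P : Sylow p G) {W K : Subgroup G}
    (hWP : W ≤ (P : Subgroup G)) (hWa : ∀ x ∈ W, ∀ y ∈ W, x * y = y * x)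
    (hWc : ∀ g : G, (∀ w ∈ W, g * w * g⁻¹ ∈ (P : Subgroup G)) →
      g ∈ Subgroup.normalizer (W : Set G))
    (hK : (Nat.card K).Coprime p)
    (hPK : ∀ r ∈ (P : Subgroup G), ∀ x ∈ K, r * x * r⁻¹ ∈ K)
    {w : G} (hw : w ∈ W) (hsol : IsPSolvable p (Subgroup.centralizer ({w} : Set G)))
    {u : G} (hu : u ∈ K) (hwu : w * u = u * w) : u ∈ centralizerPPrimeCore p w := by
  have hp : p.Prime := Fact.out
  set X : Subgroup G := Subgroup.centralizer ({w} : Set G) with hX
  have hmemX : ∀ x : G, x ∈ X ↔ x * w = w * x := fun x => by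
    rw [hX, Subgroup.mem_centralizer_singleton_iff]
  set R : Subgroup G := (P : Subgroup G) ⊓ Subgroup.centralizer (W : Set G) with hR
  have hmemC : ∀ x : G, x ∈ Subgroup.centralizer (W : Set G) ↔ ∀ y ∈ W, x * y = y * x := by
    intro x
    rw [Subgroup.mem_centralizer_iff]
    exact ⟨fun h y hy => (h y hy).symm, fun h y hy => (h y hy).symm⟩
  have hRX : R ≤ X := by
    intro x hx
    rw [hmemX]
    exact (hmemC x).1 hx.2 w hw
  have hWR : W ≤ R := fun x hx => ⟨hWP hx, (hmemC x).2 fun y hy => hWa x hx y hy⟩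
  have hRp : IsPGroup p (R.subgroupOf X) := by
    have h1 : IsPGroup p R := P.isPGroup'.to_le inf_le_left
    exact h1.of_equiv (Subgroup.subgroupOfEquivOfLe hRX).symm
  obtain ⟨S, hS⟩ := hRp.exists_le_sylow
  have hSp : IsPGroup p ((S : Subgroup X).map X.subtype) := S.isPGroup'.map _
  obtain ⟨Q, hQ⟩ := hSp.exists_le_sylow
  obtain ⟨h, hh⟩ := MulAction.exists_smul_eq G P Q
  have hQP : ∀ x : G, x ∈ (Q : Subgroup G) ↔ h⁻¹ * x * h ∈ (P : Subgroup G) := by
    intro x
    rw [← hh]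
    exact mem_smul_sylow P h x
  have hSQ : ∀ s : X, s ∈ (S : Subgroup X) → (s : G) ∈ (Q : Subgroup G) := fun s hs =>
    hQ ⟨s, hs, rfl⟩
  have hRQ : R ≤ (Q : Subgroup G) := by
    intro x hx
    exact hSQ ⟨x, hRX hx⟩ (hS (Subgroup.mem_subgroupOf.2 hx))
  have hhN' : h⁻¹ ∈ Subgroup.normalizer (W : Set G) := by
    apply hWc
    intro x hx
    have := (hQP x).1 (hRQ (hWR hx))
    rwa [inv_inv]
  have hhN : h ∈ Subgroup.normalizer (W : Set G) := by
    have := inv_mem hhN'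
    rwa [inv_inv] at this
  have hPN : ∀ r ∈ (P : Subgroup G), r ∈ Subgroup.normalizer (W : Set G) := by
    intro r hr
    apply hWc
    intro x hx
    exact mul_mem (mul_mem hr (hWP hx)) (inv_mem hr)
  have hQN : ∀ r ∈ (Q : Subgroup G), r ∈ Subgroup.normalizer (W : Set G) := by
    intro r hr
    have h1 := hPN _ ((hQP r).1 hr)
    have h2 : r = h * (h⁻¹ * r * h) * h⁻¹ := by group
    rw [h2]
    exact mul_mem (mul_mem hhN h1) hhN'
  -- `Q ∩ C(W) = R`
  have hnorm : ∀ g ∈ Subgroup.normalizer (W : Set G), ∀ x ∈ Subgroup.centralizer (W : Set G),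
      g * x * g⁻¹ ∈ Subgroup.centralizer (W : Set G) := by
    intro g hg x hx
    rw [hmemC] at hx ⊢
    intro y hy
    have h1 : g⁻¹ * y * g ∈ W := by
      have := (Subgroup.mem_normalizer_iff.1 (inv_mem hg) y).1 hy
      rwa [inv_inv] at this
    have h2 := hx _ h1
    calc g * x * g⁻¹ * y = g * (x * (g⁻¹ * y * g)) * g⁻¹ := by group
      _ = g * ((g⁻¹ * y * g) * x) * g⁻¹ := by rw [h2]
      _ = y * (g * x * g⁻¹) := by group
  have hQR : (Q : Subgroup G) ⊓ Subgroup.centralizer (W : Set G) ≤ R := by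
    have hle : R ≤ (Q : Subgroup G) ⊓ Subgroup.centralizer (W : Set G) :=
      le_inf hRQ inf_le_right
    have hcard : Nat.card ((Q : Subgroup G) ⊓ Subgroup.centralizer (W : Set G) : Subgroup G) ≤
        Nat.card R := by
      refine Nat.card_le_card_of_injective
        (fun x : ((Q : Subgroup G) ⊓ Subgroup.centralizer (W : Set G) : Subgroup G) =>
          (⟨h⁻¹ * x * h, ⟨(hQP x).1 x.2.1, ?_⟩⟩ : R)) ?_
      · have := hnorm h⁻¹ hhN' x x.2.2
        rwa [inv_inv] at this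
      · intro x y hxy
        have h1 : h⁻¹ * (x : G) * h = h⁻¹ * (y : G) * h := congrArg Subtype.val hxy
        apply Subtype.ext
        exact mul_left_cancel (mul_right_cancel h1)
    exact (Subgroup.eq_of_le_of_card_ge hle hcard).ge
  -- the invariant subgroup
  set D : Subgroup X := K.subgroupOf X with hD
  have hDc : (Nat.card D).Coprime p := by
    have h1 : Nat.card D ∣ Nat.card K := by
      rw [hD]
      have h2 : Nat.card (K.subgroupOf X) = Nat.card ((K.subgroupOf X).map X.subtype) :=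
        Nat.card_congr ((K.subgroupOf X).equivMapOfInjective _ X.subtype_injective).toEquiv
      rw [h2, Subgroup.subgroupOf_map_subtype]
      exact Subgroup.card_dvd_of_le inf_le_left
    exact Nat.Coprime.coprime_dvd_left h1 hK
  have hmain : D ≤ pPrimeCore p X := by
    refine le_pPrimeCore_of_invariant hsol S (R := R.subgroupOf X) hS ?_ ?_ hDc ?_
    · intro s hs r hr
      rw [Subgroup.mem_subgroupOf] at hr ⊢
      apply hQR
      refine Subgroup.mem_inf.2 ⟨?_, ?_⟩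
      · exact mul_mem (mul_mem (hSQ s hs) (hRQ hr)) (inv_mem (hSQ s hs))
      · exact hnorm s (hQN s (hSQ s hs)) r hr.2
    · intro s hs hsr
      rw [Subgroup.mem_subgroupOf]
      apply hQR
      refine Subgroup.mem_inf.2 ⟨hSQ s hs, ?_⟩
      rw [hmemC]
      intro y hy
      have h1 := hsr ⟨y, hRX (hWR hy)⟩ (Subgroup.mem_subgroupOf.2 (hWR hy))
      exact congrArg Subtype.val h1
    · intro r hr d hd
      rw [Subgroup.mem_subgroupOf] at hr hd ⊢
      exact hPK r hr.1 d hd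
  have huX : u ∈ X := (hmemX u).2 hwu.symm
  exact ⟨⟨u, huX⟩, hmain (Subgroup.mem_subgroupOf.2 hu), rfl⟩

end

end Cfsg.Agent.H267.Invar
end

-- part: H267/PairSylow
section
/-!
# Pairs of Sylow subgroups in `p`-solvable groups

* `mk_mem_pCore`: central elements of a Sylow `p`-subgroup of a `p`-solvable group `X` are mapped into
  `O_p(X/O_{p'}(X))`;
* `pair_comm`: the centres of two Sylow `p`-subgroups commute modulo `O_{p'}(X)`;
* `pair_conj`: a central subgroup of a Sylow subgroup can be conjugated into another one by an element of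
  `O_{p'}(X)`.
-/

set_option autoImplicit false

namespace Cfsg.Agent.H267.PairSylow

open Cfsg Subgroup

variable {X : Type*} [Group X] [Finite X] {p : ℕ} [Fact p.Prime]

theorem mk_mem_pCore (hX : IsPSolvable p X) (P : Sylow p X) {K : Subgroup X} [K.Normal]
    (hK : K = pPrimeCore p X) {z : X} (hzc : ∀ r ∈ (P : Subgroup X), r * z = z * r) :
    QuotientGroup.mk' K z ∈ pCore p (X ⧸ K) := by
  have hπs : Function.Surjective (QuotientGroup.mk' K) := QuotientGroup.mk'_surjective K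
  have hsol : IsPSolvable p (X ⧸ K) := Lib.PSolvable.IsPSolvable_of_surjective p hX _ hπs
  have hO : pPrimeCore p (X ⧸ K) = ⊥ := Lib.HallHigman.pPrimeCore_quotient_eq_bot (G := X) p K hK
  have hC := Lib.PSolvable.centralizer_pCore_le_of_pSolvable p hsol hO
  have hOS : pCore p (X ⧸ K) ≤ (P : Subgroup X).map (QuotientGroup.mk' K) :=
    Lib.HallHigman.pCore_le_sylow p (P.mapSurjective hπs)
  apply hC
  rw [mem_centralizer_iff]
  intro q hq
  obtain ⟨r, hr, rfl⟩ := hOS hq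
  rw [← map_mul, ← map_mul, hzc r hr]

theorem pair_comm (hX : IsPSolvable p X) (P₁ P₂ : Sylow p X) {z z' : X}
    (hzc : ∀ r ∈ (P₁ : Subgroup X), r * z = z * r)
    (hzc' : ∀ r ∈ (P₂ : Subgroup X), r * z' = z' * r) :
    z * z' * z⁻¹ * z'⁻¹ ∈ pPrimeCore p X := by
  set K := pPrimeCore p X with hK
  have hKn : K.Normal := Lib.HallHigman.pPrimeCore_normal p
  have hπs : Function.Surjective (QuotientGroup.mk' K) := QuotientGroup.mk'_surjective K
  have h1 := mk_mem_pCore hX P₁ hK hzc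
  have hOS : pCore p (X ⧸ K) ≤ (P₂ : Subgroup X).map (QuotientGroup.mk' K) :=
    Lib.HallHigman.pCore_le_sylow p (P₂.mapSurjective hπs)
  obtain ⟨r, hr, hr'⟩ := hOS h1
  have h2 : QuotientGroup.mk' K (z * z' * z⁻¹ * z'⁻¹) = 1 := by
    rw [map_mul, map_mul, map_mul, map_inv, map_inv, ← hr', ← map_mul, hzc' r hr, map_mul]
    group
  rwa [QuotientGroup.mk'_apply, QuotientGroup.eq_one_iff] at h2

theorem pair_conj (hX : IsPSolvable p X) (P₁ P₂ : Sylow p X) {Z : Subgroup X} (hZp : IsPGroup p Z)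
    (hZc : ∀ r ∈ (P₂ : Subgroup X), ∀ z ∈ Z, r * z = z * r) :
    ∃ k ∈ pPrimeCore p X, ∀ z ∈ Z, k⁻¹ * z * k ∈ (P₁ : Subgroup X) := by
  set K := pPrimeCore p X with hK
  have hKn : K.Normal := Lib.HallHigman.pPrimeCore_normal p
  have hπs : Function.Surjective (QuotientGroup.mk' K) := QuotientGroup.mk'_surjective K
  have hOS : pCore p (X ⧸ K) ≤ (P₁ : Subgroup X).map (QuotientGroup.mk' K) :=
    Lib.HallHigman.pCore_le_sylow p (P₁.mapSurjective hπs)
  set L : Subgroup X := (P₁ : Subgroup X) ⊔ K with hL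
  have hZL : Z ≤ L := by
    intro z hz
    obtain ⟨r, hr, hr'⟩ := hOS (mk_mem_pCore hX P₂ hK fun r hr => hZc r hr z hz)
    have h1 : r⁻¹ * z ∈ K := by
      rw [← QuotientGroup.eq]
      exact hr'
    have h2 : z = r * (r⁻¹ * z) := by group
    rw [h2]
    exact mul_mem (mem_sup_left hr) (mem_sup_right h1)
  have hPL : (P₁ : Subgroup X) ≤ L := le_sup_left
  -- `P₁` as a Sylow subgroup of `L`
  set P' : Sylow p L := P₁.subtype hPL with hP'
  have hZ' : IsPGroup p (Z.subgroupOf L) := hZp.of_equiv (Subgroup.subgroupOfEquivOfLe hZL).symm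
  obtain ⟨Q, hQ⟩ := hZ'.exists_le_sylow
  obtain ⟨l, hl⟩ := MulAction.exists_smul_eq L P' Q
  have hlL : (l : X) ∈ K ⊔ (P₁ : Subgroup X) := by
    rw [sup_comm]
    exact l.2
  obtain ⟨k, hk, u, hu, hku⟩ := (Subgroup.mem_sup_of_normal_left).1 hlL
  refine ⟨k, hk, fun z hz => ?_⟩
  have h1 : (⟨z, hZL hz⟩ : L) ∈ (Q : Subgroup L) := hQ (Subgroup.mem_subgroupOf.2 hz)
  rw [← hl, Invar.mem_smul_sylow] at h1
  have h2 : ((l⁻¹ * ⟨z, hZL hz⟩ * l : L) : X) ∈ (P₁ : Subgroup X) := by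
    rw [hP'] at h1
    exact h1
  have h3 : ((l⁻¹ * ⟨z, hZL hz⟩ * l : L) : X) = u⁻¹ * (k⁻¹ * z * k) * u := by
    rw [Subgroup.coe_mul, Subgroup.coe_mul, Subgroup.coe_inv, ← hku]
    group
  rw [h3] at h2
  have h4 : k⁻¹ * z * k = u * (u⁻¹ * (k⁻¹ * z * k) * u) * u⁻¹ := by group
  rw [h4]
  exact mul_mem (mul_mem hu h2) (inv_mem hu)

end Cfsg.Agent.H267.PairSylow
end

-- part: H267/TwoSylow
section
/-!
# Groups in which two Sylow `p`-subgroups generate a `p`-solvable group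

`isPSolvable_of_pairs`: if `⟨P₁, P₂⟩` is `p`-solvable for any two Sylow `p`-subgroups then `G` is `p`-solvable.
The simple case uses Theorems A and B (characters in the principal `p`-block) and Glauberman's Z*-theorem.
-/

set_option autoImplicit false

namespace Cfsg.Agent.H267.TwoSylow

open Cfsg Subgroup

universe u

section General

variable {G : Type*} [Group G] [Finite G] {p : ℕ} [Fact p.Prime]

theorem pairG_comm {P₁ P₂ : Sylow p G} (hX : IsPSolvable p ↥((P₁ : Subgroup G) ⊔ (P₂ : Subgroup G)))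
    {z z' : G} (hz : z ∈ (P₁ : Subgroup G)) (hz' : z' ∈ (P₂ : Subgroup G))
    (hzc : ∀ r ∈ (P₁ : Subgroup G), r * z = z * r)
    (hzc' : ∀ r ∈ (P₂ : Subgroup G), r * z' = z' * r) :
    ∃ K : Subgroup G, (Nat.card K).Coprime p ∧ z * z' * z⁻¹ * z'⁻¹ ∈ K := by
  set X : Subgroup G := (P₁ : Subgroup G) ⊔ (P₂ : Subgroup G) with hXd
  have h1 : (P₁ : Subgroup G) ≤ X := le_sup_left
  have h2 : (P₂ : Subgroup G) ≤ X := le_sup_right
  refine ⟨(pPrimeCore p X).map X.subtype, ?_, ?_⟩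
  · rw [← Nat.card_congr ((pPrimeCore p X).equivMapOfInjective _ X.subtype_injective).toEquiv]
    exact Lib.HallHigman.pPrimeCore_coprime p
  · refine ⟨⟨z, h1 hz⟩ * ⟨z', h2 hz'⟩ * (⟨z, h1 hz⟩)⁻¹ * (⟨z', h2 hz'⟩)⁻¹, ?_, rfl⟩
    refine PairSylow.pair_comm hX (P₁.subtype h1) (P₂.subtype h2) ?_ ?_
    · intro r hr
      apply Subtype.ext
      exact hzc r hr
    · intro r hr
      apply Subtype.ext
      exact hzc' r hr

theorem pairG_conj {P₁ P₂ : Sylow p G} (hX : IsPSolvable p ↥((P₁ : Subgroup G) ⊔ (P₂ : Subgroup G)))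
    {Z : Set G} (hZ : ∀ z ∈ Z, z ∈ (P₂ : Subgroup G))
    (hZc : ∀ r ∈ (P₂ : Subgroup G), ∀ z ∈ Z, r * z = z * r) :
    ∃ K : Subgroup G, (Nat.card K).Coprime p ∧
      (∀ r ∈ (P₁ : Subgroup G), ∀ x ∈ K, r * x * r⁻¹ ∈ K) ∧
      ∃ k ∈ K, ∀ z ∈ Z, k⁻¹ * z * k ∈ (P₁ : Subgroup G) := by
  set X : Subgroup G := (P₁ : Subgroup G) ⊔ (P₂ : Subgroup G) with hXd
  have h1 : (P₁ : Subgroup G) ≤ X := le_sup_left
  have h2 : (P₂ : Subgroup G) ≤ X := le_sup_right
  have hn : (pPrimeCore p X).Normal := Lib.HallHigman.pPrimeCore_normal p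
  set Y : Subgroup X := (P₂.subtype h2 : Subgroup X) ⊓
    centralizer ((P₂.subtype h2 : Subgroup X) : Set X) with hY
  obtain ⟨k, hk, hk2⟩ := PairSylow.pair_conj hX (P₁.subtype h1) (P₂.subtype h2) (Z := Y)
    ((P₂.subtype h2).isPGroup'.to_le inf_le_left)
    (fun r hr z hz => mem_centralizer_iff.1 hz.2 r hr)
  refine ⟨(pPrimeCore p X).map X.subtype, ?_, ?_, k, ⟨k, hk, rfl⟩, ?_⟩
  · rw [← Nat.card_congr ((pPrimeCore p X).equivMapOfInjective _ X.subtype_injective).toEquiv]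
    exact Lib.HallHigman.pPrimeCore_coprime p
  · rintro r hr _ ⟨x, hx, rfl⟩
    exact ⟨⟨r, h1 hr⟩ * x * ⟨r, h1 hr⟩⁻¹, hn.conj_mem x hx _, rfl⟩
  · intro z hz
    have h3 : (⟨z, h2 (hZ z hz)⟩ : X) ∈ Y := by
      refine Subgroup.mem_inf.2 ⟨hZ z hz, ?_⟩
      rw [mem_centralizer_iff]
      intro r hr
      apply Subtype.ext
      exact hZc r hr z hz
    exact hk2 _ h3

/-- An element conjugating a subgroup into itself normalizes it. -/
theorem mem_normalizer_of_forall {W : Subgroup G} {g : G} (h : ∀ w ∈ W, g * w * g⁻¹ ∈ W) :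
    g ∈ normalizer (W : Set G) := by
  have hmap : W.map (MulAut.conj g).toMonoidHom ≤ W := by
    rintro _ ⟨w, hw, rfl⟩
    exact h w hw
  have hcard : Nat.card (W.map (MulAut.conj g).toMonoidHom) = Nat.card W :=
    (Nat.card_congr (W.equivMapOfInjective _ (MulAut.conj g).injective).toEquiv).symm
  have heq := Subgroup.eq_of_le_of_card_ge hmap hcard.ge
  rw [mem_normalizer_iff]
  intro w
  refine ⟨fun hw => h w hw, fun hw => ?_⟩
  have h1 : g * w * g⁻¹ ∈ W.map (MulAut.conj g).toMonoidHom := by rw [heq]; exact hw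
  obtain ⟨w', hw', he⟩ := h1
  have h2 : g * w' * g⁻¹ = g * w * g⁻¹ := he
  have h3 : w' = w := mul_left_cancel (mul_right_cancel h2)
  rw [← h3]
  exact hw'

/-- The conjugates in `P` of the central elements of `P`. -/
def D (P : Sylow p G) : Set G :=
  {x | x ∈ (P : Subgroup G) ∧ ∃ z ∈ (P : Subgroup G), (∀ r ∈ (P : Subgroup G), r * z = z * r) ∧
    IsConj z x}

theorem D_comm (P : Sylow p G)
    (hpairs : ∀ P₁ P₂ : Sylow p G, IsPSolvable p ↥((P₁ : Subgroup G) ⊔ (P₂ : Subgroup G)))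
    {x y : G} (hx : x ∈ D P) (hy : y ∈ D P) : x * y = y * x := by
  obtain ⟨hxP, z, hz, hzc, hzx⟩ := hx
  obtain ⟨hyP, z', hz', hzc', hzy⟩ := hy
  obtain ⟨a, rfl⟩ := isConj_iff.1 hzx
  obtain ⟨b, rfl⟩ := isConj_iff.1 hzy
  have key : ∀ a z : G, z ∈ (P : Subgroup G) → (∀ r ∈ (P : Subgroup G), r * z = z * r) →
      a * z * a⁻¹ ∈ ((a • P : Sylow p G) : Subgroup G) ∧
      ∀ r ∈ ((a • P : Sylow p G) : Subgroup G), r * (a * z * a⁻¹) = (a * z * a⁻¹) * r := by
    intro a z hz hzc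
    constructor
    · rw [Invar.mem_smul_sylow]
      have : a⁻¹ * (a * z * a⁻¹) * a = z := by group
      rwa [this]
    · intro r hr
      rw [Invar.mem_smul_sylow] at hr
      have h1 := hzc _ hr
      calc r * (a * z * a⁻¹) = a * ((a⁻¹ * r * a) * z) * a⁻¹ := by group
        _ = a * (z * (a⁻¹ * r * a)) * a⁻¹ := by rw [h1]
        _ = (a * z * a⁻¹) * r := by group
  obtain ⟨h1, h2⟩ := key a z hz hzc
  obtain ⟨h3, h4⟩ := key b z' hz' hzc'
  obtain ⟨K, hK, hK2⟩ := pairG_comm (hpairs (a • P) (b • P)) h1 h3 h2 h4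
  have h5 : a * z * a⁻¹ * (b * z' * b⁻¹) * (a * z * a⁻¹)⁻¹ * (b * z' * b⁻¹)⁻¹ ∈ (P : Subgroup G) :=
    mul_mem (mul_mem (mul_mem hxP hyP) (inv_mem hxP)) (inv_mem hyP)
  have h6 := Invar.eq_one_of_mem hK P.isPGroup' hK2 h5
  exact mul_inv_eq_iff_eq_mul.1 (mul_inv_eq_one.1 h6)

theorem W_comm (P : Sylow p G)
    (hpairs : ∀ P₁ P₂ : Sylow p G, IsPSolvable p ↥((P₁ : Subgroup G) ⊔ (P₂ : Subgroup G))) :
    ∀ x ∈ closure (D P), ∀ y ∈ closure (D P), x * y = y * x := by
  have h1 : closure (D P) ≤ centralizer (closure (D P) : Set G) := by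
    rw [closure_le, centralizer_closure]
    intro x hx
    rw [SetLike.mem_coe, mem_centralizer_iff]
    intro y hy
    exact D_comm P hpairs hy hx
  intro x hx y hy
  exact (mem_centralizer_iff.1 (h1 hx) y hy).symm

theorem W_le (P : Sylow p G) : closure (D P) ≤ (P : Subgroup G) := by
  rw [closure_le]
  intro x hx
  exact hx.1

theorem W_weakly (P : Sylow p G) (g : G)
    (h : ∀ w ∈ closure (D P), g * w * g⁻¹ ∈ (P : Subgroup G)) :
    g ∈ normalizer (closure (D P) : Set G) := by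
  apply mem_normalizer_of_forall
  have h1 : closure (D P) ≤ (closure (D P)).comap (MulAut.conj g).toMonoidHom := by
    rw [closure_le]
    intro x hx
    show g * x * g⁻¹ ∈ closure (D P)
    apply Subgroup.subset_closure
    refine ⟨h x (subset_closure hx), ?_⟩
    obtain ⟨-, z, hz, hzc, hzx⟩ := hx
    exact ⟨z, hz, hzc, hzx.trans (isConj_iff.2 ⟨g, rfl⟩)⟩
  intro w hw
  exact h1 hw

/-- Three distinct elements. -/
theorem three_le_card {α : Type*} [Finite α] {a b c : α} (hab : a ≠ b) (hac : a ≠ c) (hbc : b ≠ c) :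
    3 ≤ Nat.card α := by
  classical
  have := Fintype.ofFinite α
  have h1 : ({a, b, c} : Finset α).card = 3 := Finset.card_eq_three.2 ⟨a, b, c, hab, hac, hbc, rfl⟩
  rw [← h1, Nat.card_eq_fintype_card]
  exact Finset.card_le_univ _

end General

section Simple

variable {G : Type u} [Group G] [Finite G] {p : ℕ} [Fact p.Prime]

theorem false_of_simple [IsSimpleGroup G] (hG : ¬ ∀ a b : G, a * b = b * a) (hdvd : p ∣ Nat.card G)
    (hprop : ∀ H : Subgroup G, H ≠ ⊤ → IsPSolvable p H)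
    (hpairs : ∀ P₁ P₂ : Sylow p G, IsPSolvable p ↥((P₁ : Subgroup G) ⊔ (P₂ : Subgroup G))) :
    False := by
  classical
  have hp : p.Prime := Fact.out
  obtain ⟨P⟩ : Nonempty (Sylow p G) := inferInstance
  have hcenter : center G = ⊥ := by
    rcases IsSimpleGroup.eq_bot_or_eq_top_of_normal (center G) inferInstance with h2 | h2
    · exact h2
    · exfalso
      apply hG
      intro a b
      have : b ∈ center G := by rw [h2]; trivial
      exact mem_center_iff.1 this a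
  have hcent : ∀ w : G, w ≠ 1 → IsPSolvable p (centralizer ({w} : Set G)) := by
    intro w hw
    apply hprop
    intro htop
    apply hw
    rw [← mem_bot, ← hcenter, mem_center_iff]
    intro g
    have : g ∈ centralizer ({w} : Set G) := by rw [htop]; trivial
    exact mem_centralizer_singleton_iff.1 this
  have hsmul : ∀ g x : G, x ∈ ((g • P : Sylow p G) : Subgroup G) ↔ g⁻¹ * x * g ∈ (P : Subgroup G) :=
    fun g x => Invar.mem_smul_sylow P g x
  set Z : Subgroup G := (P : Subgroup G) ⊓ centralizer ((P : Subgroup G) : Set G) with hZ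
  have hZc : ∀ r ∈ (P : Subgroup G), ∀ z ∈ Z, r * z = z * r := fun r hr z hz =>
    mem_centralizer_iff.1 hz.2 r hr
  set W : Subgroup G := closure (D P) with hW
  have hWP : W ≤ (P : Subgroup G) := W_le P
  have hWa := W_comm P hpairs
  have hWw := W_weakly P
  have hZW : Z ≤ W := fun z hz =>
    subset_closure ⟨hz.1, z, hz.1, fun r hr => hZc r hr z hz, IsConj.refl z⟩
  have hPW : ∀ r ∈ (P : Subgroup G), ∀ w ∈ W, r * w * r⁻¹ ∈ W := by
    intro r hr w hw
    have h1 : r ∈ normalizer (W : Set G) := hWw r fun w hw =>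
      mul_mem (mul_mem hr (hWP hw)) (inv_mem hr)
    exact (mem_normalizer_iff.1 h1 w).1 hw
  have hB : ThmA.HypB p W Z := by
    refine ⟨hWa, P.isPGroup'.to_le hWP, hZW, fun g => ?_⟩
    obtain ⟨K, hK, hPK, k, hk, hk2⟩ := pairG_conj (hpairs P (g⁻¹ • P))
      (Z := {x | ∃ z ∈ Z, x = g⁻¹ * z * g}) (by
        rintro _ ⟨z, hz, rfl⟩
        rw [hsmul, inv_inv]
        have : g * (g⁻¹ * z * g) * g⁻¹ = z := by group
        rw [this]
        exact hz.1) (by
        rintro r hr _ ⟨z, hz, rfl⟩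
        rw [hsmul, inv_inv] at hr
        have h1 := hZc _ hr z hz
        calc r * (g⁻¹ * z * g) = g⁻¹ * ((g * r * g⁻¹) * z) * g := by group
          _ = g⁻¹ * (z * (g * r * g⁻¹)) * g := by rw [h1]
          _ = (g⁻¹ * z * g) * r := by group)
    refine ⟨K, hK, fun w hw x hx => hPK w (hWP hw) x hx, fun w hw hw1 u hu hwu => ?_, k, hk, ?_⟩
    · exact Invar.mem_centralizerPPrimeCore P hWP hWa hWw hK hPK hw (hcent w hw1) hu hwu
    · intro z hz
      have h1 := hk2 _ ⟨z, hz, rfl⟩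
      have h2 : (g * k)⁻¹ * z * (g * k) = k⁻¹ * (g⁻¹ * z * g) * k := by group
      rw [h2]
      apply Subgroup.subset_closure
      refine ⟨h1, z, hz.1, fun r hr => hZc r hr z hz, isConj_iff.2 ⟨(g * k)⁻¹, ?_⟩⟩
      group
  -- the centre of `P` is not trivial
  have hPne : (P : Subgroup G) ≠ ⊥ := by
    intro h
    have h1 := P.card_eq_multiplicity
    rw [h, Subgroup.card_bot] at h1
    have h2 : 0 < (Nat.card G).factorization p :=
      hp.factorization_pos_of_dvd Nat.card_pos.ne' hdvd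
    have h3 : 1 < p ^ (Nat.card G).factorization p := Nat.one_lt_pow h2.ne' hp.one_lt
    omega
  have hZne : Z ≠ ⊥ := by
    have hnt : Nontrivial (P : Subgroup G) := (Subgroup.nontrivial_iff_ne_bot _).2 hPne
    have hcn : Nontrivial (center (P : Subgroup G)) := P.isPGroup'.center_nontrivial
    obtain ⟨z, hz⟩ := exists_ne (1 : center (P : Subgroup G))
    intro h
    apply hz
    have h1 : ((z : (P : Subgroup G)) : G) ∈ Z := by
      refine Subgroup.mem_inf.2 ⟨(z : (P : Subgroup G)).2, ?_⟩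
      rw [mem_centralizer_iff]
      intro r hr
      exact congrArg Subtype.val (mem_center_iff.1 z.2 ⟨r, hr⟩)
    rw [h, mem_bot] at h1
    exact Subtype.ext (Subtype.ext h1)
  by_cases hZ3 : 3 ≤ Nat.card Z
  · by_cases hab : ∀ x ∈ (P : Subgroup G), ∀ y ∈ (P : Subgroup G), x * y = y * x
    · -- abelian case
      have hPw : ∀ g : G, (∀ w ∈ (P : Subgroup G), g * w * g⁻¹ ∈ (P : Subgroup G)) →
          g ∈ normalizer ((P : Subgroup G) : Set G) := fun g h => mem_normalizer_of_forall h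
      have hA : ThmA.Hyp p (P : Subgroup G) := by
        refine ⟨hab, P.isPGroup', fun g => ?_⟩
        obtain ⟨K, hK, hPK, k, hk, hk2⟩ := pairG_conj (hpairs P (g • P))
          (Z := ((g • P : Sylow p G) : Subgroup G)) (fun z hz => hz) (by
            intro r hr z hz
            rw [SetLike.mem_coe, hsmul] at hz
            rw [hsmul] at hr
            have h1 := hab _ hr _ hz
            calc r * z = g * ((g⁻¹ * r * g) * (g⁻¹ * z * g)) * g⁻¹ := by group
              _ = g * ((g⁻¹ * z * g) * (g⁻¹ * r * g)) * g⁻¹ := by rw [h1]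
              _ = z * r := by group)
        refine ⟨K, hK, hPK, fun w hw hw1 u hu hwu => ?_, k⁻¹, K.inv_mem hk, ?_⟩
        · exact Invar.mem_centralizerPPrimeCore P le_rfl hab hPw hK hPK hw (hcent w hw1) hu hwu
        · apply mem_normalizer_of_forall
          intro w hw
          have h1 := hk2 (g * w * g⁻¹) (by
            rw [SetLike.mem_coe, hsmul]
            have : g⁻¹ * (g * w * g⁻¹) * g = w := by group
            rwa [this])
          have h2 : k⁻¹ * g * w * (k⁻¹ * g)⁻¹ = k⁻¹ * (g * w * g⁻¹) * k := by group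
          rw [h2]
          exact h1
      exact ThmA.false_of_simple hG hA (hZ3.trans (Subgroup.card_le_of_le inf_le_left))
    · -- nonabelian case
      refine ThmA.falseB hG hB hZ3 P hZc ?_
      have hne : W ≠ (P : Subgroup G) := by
        intro h
        apply hab
        rw [← h]
        exact hWa
      have h1 := Lib.HallHigman.card_mul_relIndex' hWP
      have h2 : 1 < W.relIndex (P : Subgroup G) := by
        have h3 : W.relIndex (P : Subgroup G) ≠ 1 := by
          intro h4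
          rw [Subgroup.relIndex_eq_one] at h4
          exact hne (le_antisymm hWP h4)
        have h5 : W.relIndex (P : Subgroup G) ≠ 0 := by
          intro h0
          rw [h0, mul_zero] at h1
          exact (Nat.card_pos (α := (P : Subgroup G))).ne h1
        omega
      rw [← h1, mul_comm]
      exact Nat.mul_le_mul_left _ h2
  · -- `|Z| = 2`
    have hZ1 : 1 < Nat.card Z := by
      rw [Finite.one_lt_card_iff_nontrivial]
      exact (Subgroup.nontrivial_iff_ne_bot _).2 hZne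
    have hZ2 : Nat.card Z = 2 := by omega
    have hp2 : p = 2 := by
      obtain ⟨n, hn⟩ := (P.isPGroup'.to_le (inf_le_left : Z ≤ (P : Subgroup G))).exists_card_eq
      rw [hZ2] at hn
      have h1 : p ∣ 2 := by
        rw [hn]
        apply dvd_pow_self
        rintro rfl
        rw [pow_zero] at hn
        omega
      exact (Nat.prime_dvd_prime_iff_eq hp Nat.prime_two).1 h1
    subst hp2
    obtain ⟨M, hM⟩ := Blocks.ExistsModular.exists_isPModular hp
    obtain ⟨⟨z, hz⟩, hz2⟩ := Subgroup.ne_bot_iff_exists_ne_one.1 hZne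
    have hz1 : z ≠ 1 := fun h => hz2 (Subtype.ext h)
    have hcl : normalClosure (Z : Set G) = ⊤ := by
      rcases IsSimpleGroup.eq_bot_or_eq_top_of_normal (normalClosure (Z : Set G))
        inferInstance with h1 | h1
      · exfalso
        apply hZne
        rw [eq_bot_iff, ← h1]
        exact le_normalClosure
      · exact h1
    have hfus := ThmA.fusion_two hB hM hcl hZ2 P.isPGroup'
      (Subgroup.card_le_of_le hWP) hz hz1 (fun r hr => hZc r hr z hz)
    have hZel : ∀ w ∈ Z, w ≠ 1 → w = z := by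
      intro w hw hw1
      by_contra hne
      have h2 := three_le_card (a := (⟨1, Z.one_mem⟩ : Z)) (b := ⟨z, hz⟩) (c := ⟨w, hw⟩)
        (fun h => hz1 (congrArg Subtype.val h).symm) (fun h => hw1 (congrArg Subtype.val h).symm)
        (fun h => hne (congrArg Subtype.val h).symm)
      omega
    have hiso : ∀ g : G, g * z * g⁻¹ ∈ (P : Subgroup G) → g * z * g⁻¹ = z := by
      intro g hg
      set w : G := g * z * g⁻¹ with hw
      have hconj : IsConj z w := isConj_iff.2 ⟨g, rfl⟩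
      have hwW : w ∈ W := subset_closure ⟨hg, z, hz.1, fun r hr => hZc r hr z hz, hconj⟩
      by_contra hne
      have hw1 : w ≠ 1 := by
        intro h
        rw [h] at hconj
        exact hz1 (isConj_one_left.1 hconj)
      have hfix : ∀ r ∈ (P : Subgroup G), r * w * r⁻¹ = w := by
        intro r hr
        by_contra hne2
        have hz3 : r * w * r⁻¹ ≠ z := by
          intro h
          apply hne
          have h2 : w = r⁻¹ * z * r := by rw [← h]; group
          rw [h2]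
          have h3 := hZc r⁻¹ (inv_mem hr) z hz
          rw [h3]
          group
        have hc2 : IsConj z (r * w * r⁻¹) := hconj.trans (isConj_iff.2 ⟨r, rfl⟩)
        have h2 := three_le_card (a := (⟨⟨z, hZW hz⟩, IsConj.refl z⟩ : {w : W // IsConj z (w : G)}))
          (b := ⟨⟨w, hwW⟩, hconj⟩) (c := ⟨⟨r * w * r⁻¹, hPW r hr w hwW⟩, hc2⟩)
          (fun h => hne (congrArg (fun q => ((q : {w : W // IsConj z (w : G)}) : W).1) h).symm)
          (fun h => hz3 (congrArg (fun q => ((q : {w : W // IsConj z (w : G)}) : W).1) h).symm)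
          (fun h => hne2 (congrArg (fun q => ((q : {w : W // IsConj z (w : G)}) : W).1) h).symm)
        omega
      have hwZ : w ∈ Z := by
        refine Subgroup.mem_inf.2 ⟨hg, ?_⟩
        rw [mem_centralizer_iff]
        intro r hr
        exact mul_inv_eq_iff_eq_mul.1 (hfix r hr)
      exact hne (hZel w hwZ hw1)
    have hzord : orderOf z = 2 := by
      have h1 : orderOf (⟨z, hz⟩ : Z) ∣ 2 := by
        rw [← hZ2]
        exact orderOf_dvd_natCard _
      rw [Subgroup.orderOf_mk] at h1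
      rcases (Nat.dvd_prime Nat.prime_two).1 h1 with h2 | h2
      · exact absurd (orderOf_eq_one_iff.1 h2) hz1
      · exact h2
    obtain ⟨N, hNn, hNo, hNc⟩ := S0215.result P z hzord hz.1 hiso
    have hNb : N = ⊥ := by
      rcases IsSimpleGroup.eq_bot_or_eq_top_of_normal N hNn with h2 | h2
      · exact h2
      · exfalso
        rw [h2, Subgroup.card_top] at hNo
        exact (Nat.not_even_iff_odd.2 hNo) (even_iff_two_dvd.2 hdvd)
    have hzc : z ∈ center G := by
      rw [mem_center_iff]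
      intro g
      have h1 := hNc g
      rw [hNb, mem_bot] at h1
      have h3 : z * g * z⁻¹ = g := mul_inv_eq_one.1 h1
      exact (mul_inv_eq_iff_eq_mul.1 h3).symm
    rw [hcenter, mem_bot] at hzc
    exact hz1 hzc

end Simple

section Main

variable {p : ℕ} [Fact p.Prime]

/-- The pair condition passes to subgroups. -/
theorem pairs_subgroup {G : Type u} [Group G] [Finite G]
    (hpairs : ∀ P₁ P₂ : Sylow p G, IsPSolvable p ↥((P₁ : Subgroup G) ⊔ (P₂ : Subgroup G)))
    (H : Subgroup G) :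
    ∀ Q₁ Q₂ : Sylow p H, IsPSolvable p ↥((Q₁ : Subgroup H) ⊔ (Q₂ : Subgroup H)) := by
  intro Q₁ Q₂
  obtain ⟨P₁, h1⟩ := (Q₁.isPGroup'.map H.subtype).exists_le_sylow
  obtain ⟨P₂, h2⟩ := (Q₂.isPGroup'.map H.subtype).exists_le_sylow
  have hle : ((Q₁ : Subgroup H) ⊔ (Q₂ : Subgroup H)).map H.subtype ≤
      (P₁ : Subgroup G) ⊔ (P₂ : Subgroup G) := by
    rw [Subgroup.map_sup]
    exact sup_le_sup h1 h2
  refine Lib.PSolvable.IsPSolvable_of_injective p (hpairs P₁ P₂)
    ((Subgroup.inclusion hle).comp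
      (((Q₁ : Subgroup H) ⊔ (Q₂ : Subgroup H)).equivMapOfInjective H.subtype
        H.subtype_injective).toMonoidHom) ?_
  exact (Subgroup.inclusion_injective hle).comp (MulEquiv.injective _)

/-- The pair condition passes to quotients. -/
theorem pairs_quotient {G : Type u} [Group G] [Finite G]
    (hpairs : ∀ P₁ P₂ : Sylow p G, IsPSolvable p ↥((P₁ : Subgroup G) ⊔ (P₂ : Subgroup G)))
    (N : Subgroup G) [N.Normal] :
    ∀ Q₁ Q₂ : Sylow p (G ⧸ N),
      IsPSolvable p ↥((Q₁ : Subgroup (G ⧸ N)) ⊔ (Q₂ : Subgroup (G ⧸ N))) := by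
  have hs : Function.Surjective (QuotientGroup.mk' N) := QuotientGroup.mk'_surjective N
  intro Q₁ Q₂
  obtain ⟨P₁, rfl⟩ := Sylow.mapSurjective_surjective hs p Q₁
  obtain ⟨P₂, rfl⟩ := Sylow.mapSurjective_surjective hs p Q₂
  have h1 : ((P₁.mapSurjective hs : Sylow p (G ⧸ N)) : Subgroup (G ⧸ N)) ⊔
      ((P₂.mapSurjective hs : Sylow p (G ⧸ N)) : Subgroup (G ⧸ N)) =
      ((P₁ : Subgroup G) ⊔ (P₂ : Subgroup G)).map (QuotientGroup.mk' N) := by
    rw [Subgroup.map_sup]
    rfl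
  rw [h1]
  exact Lib.PSolvable.IsPSolvable_of_surjective p (hpairs P₁ P₂)
    ((QuotientGroup.mk' N).subgroupMap ((P₁ : Subgroup G) ⊔ (P₂ : Subgroup G)))
    ((QuotientGroup.mk' N).subgroupMap_surjective _)

theorem main_aux (n : ℕ) : ∀ (G : Type u) [Group G] [Finite G], Nat.card G = n →
    (∀ P₁ P₂ : Sylow p G, IsPSolvable p ↥((P₁ : Subgroup G) ⊔ (P₂ : Subgroup G))) →
    IsPSolvable p G := by
  induction n using Nat.strong_induction_on with
  | _ n ih =>
  intro G _ _ hn hpairs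
  have hp : p.Prime := Fact.out
  have hsub : ∀ H : Subgroup G, H ≠ ⊤ → IsPSolvable p H := by
    intro H hH
    refine ih (Nat.card H) ?_ H rfl (pairs_subgroup hpairs H)
    rw [← hn]
    exact lt_of_le_of_ne (Subgroup.card_le_card_group H) fun h => hH ((Subgroup.card_eq_iff_eq_top H).1 h)
  by_cases hsolv : Group.IsSolvable G
  · exact Lib.PSolvable.IsPSolvable_of_solvable p
  have hnt : Nontrivial G := by
    by_contra hcon
    rw [not_nontrivial_iff_subsingleton] at hcon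
    exact hsolv inferInstance
  by_cases hnorm : ∃ N : Subgroup G, N.Normal ∧ N ≠ ⊥ ∧ N ≠ ⊤
  · obtain ⟨N, hN, hNb, hNt⟩ := hnorm
    refine Lib.PSolvable.IsPSolvable_of_extension p N (hsub N hNt) ?_
    refine ih (Nat.card (G ⧸ N)) ?_ (G ⧸ N) rfl (pairs_quotient hpairs N)
    rw [← hn, Subgroup.card_eq_card_quotient_mul_card_subgroup N]
    have h1 : 1 < Nat.card N := (Subgroup.one_lt_card_iff_ne_bot N).2 hNb
    have h2 : 0 < Nat.card (G ⧸ N) := Nat.card_pos
    exact lt_mul_of_one_lt_right h2 h1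
  · push Not at hnorm
    have hsimple : IsSimpleGroup G := ⟨fun N hN => by
      by_cases h : N = ⊥
      · exact Or.inl h
      · exact Or.inr (hnorm N hN h)⟩
    by_cases hdvd : p ∣ Nat.card G
    · exfalso
      refine false_of_simple (fun hab => hsolv ?_) hdvd hsub hpairs
      exact Group.isSolvable_of_comm hab
    · refine Lib.PSolvable.IsPSolvable_of_quotient p (⊤ : Subgroup G) (Or.inr ?_) ?_
      · rw [Subgroup.card_top]
        exact ((Nat.Prime.coprime_iff_not_dvd hp).2 hdvd).symm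
      · have : Subsingleton (G ⧸ (⊤ : Subgroup G)) := QuotientGroup.subsingleton_quotient_top
        have : Group.IsSolvable (G ⧸ (⊤ : Subgroup G)) := inferInstance
        exact Lib.PSolvable.IsPSolvable_of_solvable p

/-- **Main theorem.** -/
theorem isPSolvable_of_pairs {G : Type u} [Group G] [Finite G]
    (hpairs : ∀ P₁ P₂ : Sylow p G, IsPSolvable p ↥((P₁ : Subgroup G) ⊔ (P₂ : Subgroup G))) :
    IsPSolvable p G :=
  main_aux (Nat.card G) G rfl hpairs

end Main

end Cfsg.Agent.H267.TwoSylow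
end
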